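import Mathlib
import Cfsg.Agent.Lib.Functor.EngineOn
import Cfsg.Agent.Lib.Functor.Core
import Cfsg.Agent.Lib.ZJ.Family
import Cfsg.Agent.Lib.Involves.Basic

/-!
Fusion controlled by the normaliser of `Z(J(S))`, and the transfer to proper subgroups.
-/

set_option autoImplicit false

namespace Cfsg.Agent.Lib.ZJFailure

open Subgroup Functor ZJ

universe u

variable {G : Type u} [Group G] {p : ℕ} [Fact p.Prime]

/-- `N(Z(J(S)))`. -/
abbrev zjNormalizer (S : Subgroup G) : Subgroup G := normalizer (zj 0 S : Set G)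

/-- The central part of `S`. -/
abbrev zc (S : Subgroup G) : Subgroup G := S ⊓ Subgroup.center G

/-- The conclusion: F(p) is involved in `H` and `H` induces a generator of `Aut C` on some
subgroup `C` of order `p` of `Z(J(S))`. -/
def Concl (p : ℕ) [Fact p.Prime] {G : Type u} [Group G] (S : Subgroup G) : Prop :=
  Cfsg.Involves ↥(Cfsg.fOver (ZMod p)) ↥(zjNormalizer S) ∧
    ∃ C : Subgroup G, C ≤ zj 0 S ∧ Nat.card C = p ∧
      ∃ n ∈ zjNormalizer S, ∃ μ : (ZMod p)ˣ, orderOf μ = p - 1 ∧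
        ∀ c ∈ C, n * c * n⁻¹ = c ^ (μ : ZMod p).val

/-- The conjugation by `g` on `B` is induced by an element of `H`. -/
def Rel (H : Subgroup G) (B : Subgroup G) (g : G) : Prop :=
  ∃ n ∈ H, ∀ b ∈ B, n * b * n⁻¹ = g * b * g⁻¹

omit [Fact p.Prime] in
theorem rel_isFusionProp (S H : Subgroup G) : IsFusionProp S (Rel H) where
  bot g := ⟨1, one_mem H, fun b hb => by rw [mem_bot.1 hb]; simp⟩
  comp := by
    rintro B g h - - - ⟨n, hn, hng⟩ ⟨k, hk, hkh⟩
    refine ⟨k * n, mul_mem hk hn, fun b hb => ?_⟩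
    have h2 := hkh _ (conj_mem_cj hb)
    calc k * n * b * (k * n)⁻¹ = k * (n * b * n⁻¹) * k⁻¹ := by group
      _ = k * (g * b * g⁻¹) * k⁻¹ := by rw [hng b hb]
      _ = h * (g * b * g⁻¹) * h⁻¹ := h2
      _ = h * g * b * (h * g)⁻¹ := by group
  symm := by
    rintro B g - - ⟨n, hn, hng⟩
    refine ⟨n⁻¹, inv_mem hn, fun x hx => ?_⟩
    have h := hng _ (mem_cj.1 hx)
    calc n⁻¹ * x * n⁻¹⁻¹ = n⁻¹ * (g * (g⁻¹ * x * g) * g⁻¹) * n := by group
      _ = n⁻¹ * (n * (g⁻¹ * x * g) * n⁻¹) * n := by rw [h]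
      _ = g⁻¹ * x * g⁻¹⁻¹ := by group
  restrict := by
    rintro B B' g - - hle ⟨n, hn, hng⟩
    exact ⟨n, hn, fun b hb => hng b (hle hb)⟩

omit [Fact p.Prime] in
theorem Rel.of_mem {H B : Subgroup G} {g : G} (hg : g ∈ H) : Rel H B g :=
  ⟨g, hg, fun _ _ => rfl⟩

omit [Fact p.Prime] in
theorem Rel.mul {H B : Subgroup G} {g h : G} (hg : Rel H B g) (hh : Rel H (cj g B) h) :
    Rel H B (h * g) := by
  obtain ⟨n, hn, hng⟩ := hg
  obtain ⟨k, hk, hkh⟩ := hh
  refine ⟨k * n, mul_mem hk hn, fun b hb => ?_⟩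
  calc k * n * b * (k * n)⁻¹ = k * (n * b * n⁻¹) * k⁻¹ := by group
    _ = k * (g * b * g⁻¹) * k⁻¹ := by rw [hng b hb]
    _ = h * (g * b * g⁻¹) * h⁻¹ := hkh _ (conj_mem_cj hb)
    _ = h * g * b * (h * g)⁻¹ := by group

omit [Fact p.Prime] in
theorem Rel.inv {H B : Subgroup G} {g : G} (hg : Rel H B g) : Rel H (cj g B) g⁻¹ := by
  obtain ⟨n, hn, hng⟩ := hg
  refine ⟨n⁻¹, inv_mem hn, fun x hx => ?_⟩
  have h := hng _ (mem_cj.1 hx)
  calc n⁻¹ * x * n⁻¹⁻¹ = n⁻¹ * (g * (g⁻¹ * x * g) * g⁻¹) * n := by group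
    _ = n⁻¹ * (n * (g⁻¹ * x * g) * n⁻¹) * n := by rw [h]
    _ = g⁻¹ * x * g⁻¹⁻¹ := by group

omit [Fact p.Prime] in
theorem Rel.mono {H B B' : Subgroup G} {g : G} (hle : B' ≤ B) (hg : Rel H B g) : Rel H B' g := by
  obtain ⟨n, hn, hng⟩ := hg
  exact ⟨n, hn, fun b hb => hng b (hle hb)⟩

omit [Fact p.Prime] in
theorem Rel.of_centralize {H B : Subgroup G} {g : G} (hg : ∀ b ∈ B, g * b * g⁻¹ = b) :
    Rel H B g :=
  ⟨1, one_mem H, fun b hb => by rw [hg b hb]; simp⟩

/-- All fusion in `S` is induced by `H = N(Z(J(S)))`. -/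
def Controls {G : Type u} [Group G] (S : Subgroup G) : Prop :=
  ∀ (B : Subgroup G) (g : G), B ≤ S → cj g B ≤ S → Rel (zjNormalizer S) B g

/-- The statement for the proper subgroups. -/
def Below (p : ℕ) [Fact p.Prime] (G : Type u) [Group G] : Prop :=
  ∀ L : Subgroup G, L ≠ ⊤ → ∀ T : Sylow p L, ¬ Concl p (T : Subgroup L) → Controls (T : Subgroup L)

variable [Finite G]

/-- A `p`-subgroup containing all the maximal abelian subgroups of `S` has the same `Z(J)`. -/
theorem zj_eq_of_fam_le (S : Sylow p G) {P : Subgroup G} (hP : IsPGroup p P)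
    (hfam : ∀ A ∈ fam 0 (S : Subgroup G), A ≤ P) : zj 0 P = zj 0 (S : Subgroup G) := by
  obtain ⟨S'', hS''⟩ := hP.exists_le_sylow
  obtain ⟨g, hg⟩ := MulAction.exists_smul_eq G S'' S
  have hcj : cj g (S'' : Subgroup G) = (S : Subgroup G) := by rw [← hg]; rfl
  have hsub : fam 0 (S : Subgroup G) ⊆ fam 0 (S'' : Subgroup G) := by
    intro A hA
    refine ⟨(hfam A hA).trans hS'', hA.2.1, fun C hC hCa => ?_⟩
    rw [← card_cj g C]
    exact hA.2.2 _ (hcj ▸ cj_mono g hC) (abExp_map hCa _)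
  have himg : ∀ A ∈ fam 0 (S'' : Subgroup G), cj g A ∈ fam 0 (S : Subgroup G) := by
    intro A hA
    have h := (fam_map_iff (m := 0) (MulAut.conj g).toMonoidHom (U := (S'' : Subgroup G))
      (MulAut.conj g).injective.injOn (B := cj g A)).2 ⟨A, hA, rfl⟩
    rwa [← hcj]
  have heq : fam 0 (S : Subgroup G) = fam 0 (S'' : Subgroup G) :=
    Set.eq_of_subset_of_ncard_le hsub (Set.ncard_le_ncard_of_injOn (cj g) himg
      (fun A _ B _ h => by simpa [cj_cj] using congrArg (cj g⁻¹) h) (Set.toFinite _)) (Set.toFinite _)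
  have hfamP : fam 0 P = fam 0 (S : Subgroup G) := by
    ext A
    constructor
    · rintro ⟨hA, hAe, hmax⟩
      rw [heq]
      obtain ⟨A0, hA0⟩ := exists_mem_fam 0 (S : Subgroup G)
      refine ⟨hA.trans hS'', hAe, fun C hC hCa => ?_⟩
      exact ((hsub hA0).2.2 C hC hCa).trans (hmax A0 (hfam A0 hA0) hA0.2.1)
    · intro hA
      exact ⟨hfam A hA, hA.2.1, fun C hC hCa => (hsub hA).2.2 C (hC.trans hS'') hCa⟩
  rw [zj, zj, hfamP]

/-- The fusion inside a proper subgroup containing all the maximal abelian subgroups is induced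
inside it. -/
theorem rel_of_proper_inf (hbelow : Below p G) (S : Sylow p G) (hS : ¬ Concl p (S : Subgroup G))
    {L : Subgroup G} (hL : L ≠ ⊤) (hfam : ∀ A ∈ fam 0 (S : Subgroup G), A ≤ L)
    {B : Subgroup G} {g : G} (hg : g ∈ L) (hB : B ≤ (S : Subgroup G) ⊓ L)
    (hgB : cj g B ≤ (S : Subgroup G) ⊓ L) : Rel (zjNormalizer (S : Subgroup G) ⊓ L) B g := by
  obtain ⟨T, hT⟩ := ((S.2.to_le (inf_le_left : (S : Subgroup G) ⊓ L ≤ _)).comap_of_injective
    L.subtype L.subtype_injective :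
      IsPGroup p (((S : Subgroup G) ⊓ L).subgroupOf L)).exists_le_sylow
  have hle : ∀ x (hx : x ∈ (S : Subgroup G) ⊓ L), (⟨x, hx.2⟩ : L) ∈ (T : Subgroup L) :=
    fun x hx => hT (mem_subgroupOf.2 hx)
  have hW : (zj 0 (T : Subgroup L)).map L.subtype = zj 0 (S : Subgroup G) := by
    rw [← zj_map (m := 0) L.subtype L.subtype_injective.injOn]
    exact zj_eq_of_fam_le S (T.2.map _) fun A hA x hx =>
      ⟨⟨x, hfam A hA hx⟩, hle x ⟨hA.1 hx, hfam A hA hx⟩, rfl⟩
  have hH : ∀ n : L, n ∈ zjNormalizer (T : Subgroup L) → (n : G) ∈ zjNormalizer (S : Subgroup G) := by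
    intro n hn
    refine mem_normalizer_of_cj_le (cj_le_iff.2 fun x hx => ?_)
    rw [← hW] at hx ⊢
    obtain ⟨z, hz, rfl⟩ := hx
    exact ⟨n * z * n⁻¹, (mem_normalizer_iff.1 hn z).1 hz, rfl⟩
  have hT' : ¬ Concl p (T : Subgroup L) := by
    rintro ⟨hI, C, hC, hCp, n, hn, μ, hμ, hnC⟩
    refine hS ⟨?_, C.map L.subtype, hW ▸ map_mono hC, ?_, n, hH n hn, μ, hμ, ?_⟩
    · refine Involves.of_injective
        ((L.subtype.comp (zjNormalizer (T : Subgroup L)).subtype).codRestrict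
          (zjNormalizer (S : Subgroup G)) fun z => hH z.1 z.2) ?_ hI
      intro x y h
      exact Subtype.ext (Subtype.ext (congrArg (fun z : zjNormalizer (S : Subgroup G) => (z : G)) h))
    · rw [card_map_of_injective L.subtype_injective, hCp]
    · rintro _ ⟨c, hc, rfl⟩
      have h := congrArg Subtype.val (hnC c hc)
      simpa using h
  obtain ⟨n, hn, hng⟩ := hbelow L hL T hT' (B.subgroupOf L) ⟨g, hg⟩
    (fun x hx => hle x (hB (mem_subgroupOf.1 hx)))
    (cj_le_iff.2 fun x hx => hle _ (hgB (conj_mem_cj (mem_subgroupOf.1 hx))))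
  refine ⟨n, ⟨hH n hn, n.2⟩, fun b hb => ?_⟩
  exact congrArg Subtype.val (hng ⟨b, (hB hb).2⟩ (mem_subgroupOf.2 hb))

/-- The fusion inside a proper subgroup containing all the maximal abelian subgroups. -/
theorem rel_of_proper (hbelow : Below p G) (S : Sylow p G) (hS : ¬ Concl p (S : Subgroup G))
    {L : Subgroup G} (hL : L ≠ ⊤) (hfam : ∀ A ∈ fam 0 (S : Subgroup G), A ≤ L)
    {B : Subgroup G} {g : G} (hg : g ∈ L) (hB : B ≤ (S : Subgroup G) ⊓ L)
    (hgB : cj g B ≤ (S : Subgroup G) ⊓ L) : Rel (zjNormalizer (S : Subgroup G)) B g :=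
  let ⟨n, hn, hng⟩ := rel_of_proper_inf hbelow S hS hL hfam hg hB hgB
  ⟨n, hn.1, hng⟩

/-- An element acting as a generator of the automorphism group of a subgroup of order `p`. -/
theorem relIndex_eq_sub_one {H C : Subgroup G} (hC : Nat.card C = p) {n : G} (hn : n ∈ H)
    {μ : (ZMod p)ˣ} (hμ : orderOf μ = p - 1) (hnC : ∀ c ∈ C, n * c * n⁻¹ = c ^ (μ : ZMod p).val) :
    (H ⊓ centralizer (C : Set G)).relIndex (H ⊓ normalizer (C : Set G)) = p - 1 := by
  have hp : p.Prime := Fact.out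
  have hnN : n ∈ normalizer (C : Set G) := mem_normalizer_of_cj_le (cj_le_iff.2 fun c hc => by
    rw [hnC c hc]; exact pow_mem hc _)
  let φ : ↥(H ⊓ normalizer (C : Set G)) →* MulAut C :=
    C.normalizerMonoidHom.comp (Subgroup.inclusion inf_le_right)
  have hφ : ∀ g c, ((φ g c : C) : G) = (g : G) * c * (g : G)⁻¹ := fun _ _ => rfl
  have hker : φ.ker =
      (H ⊓ centralizer (C : Set G)).subgroupOf (H ⊓ normalizer (C : Set G)) := by
    ext g
    rw [MonoidHom.mem_ker, mem_subgroupOf, mem_inf, mem_centralizer_iff]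
    constructor
    · intro h
      refine ⟨g.2.1, fun c hc => ?_⟩
      have := congrArg (fun f : MulAut C => ((f ⟨c, hc⟩ : C) : G)) h
      simp only [hφ, MulAut.one_apply] at this
      exact (mul_inv_eq_iff_eq_mul.1 this).symm
    · rintro ⟨-, h⟩
      refine MulEquiv.ext fun c => Subtype.ext ?_
      rw [hφ, MulAut.one_apply, mul_inv_eq_iff_eq_mul]
      exact (h c c.2).symm
  haveI : IsCyclic C := isCyclic_of_prime_card hC
  have hcard : Nat.card (MulAut C) = p - 1 := by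
    rw [IsCyclic.card_mulAut, hC, Nat.totient_prime hp]
  rw [relIndex, ← hker, index_ker]
  refine le_antisymm ((card_le_card_group _).trans hcard.le) ?_
  set x := φ ⟨n, hn, hnN⟩ with hx
  have hxp : p - 1 ≤ orderOf x := by
    have hpow : ∀ k (c : C), ((x ^ k) c : C) = c ^ (μ : ZMod p).val ^ k := by
      intro k
      induction k with
      | zero => intro c; simp
      | succ k ih =>
        intro c
        rw [pow_succ, MulAut.mul_apply, show x c = c ^ (μ : ZMod p).val from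
          Subtype.ext ((hφ _ c).trans ((hnC c c.2).trans (SubgroupClass.coe_pow c _).symm)),
          map_pow, ih, ← pow_mul, ← pow_succ]
    obtain ⟨g, hg⟩ := IsCyclic.exists_generator (α := C)
    have hgo : orderOf g = p := (orderOf_eq_card_of_forall_mem_zpowers hg).trans hC
    have h1 := hpow (orderOf x) g
    rw [pow_orderOf_eq_one, MulAut.one_apply] at h1
    conv_lhs at h1 => rw [← pow_one g]
    rw [pow_eq_pow_iff_modEq, hgo, ← ZMod.natCast_eq_natCast_iff, Nat.cast_one, Nat.cast_pow,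
      ZMod.natCast_zmod_val] at h1
    rw [← hμ]
    exact Nat.le_of_dvd (orderOf_pos x) (orderOf_dvd_of_pow_eq_one (Units.ext (by simpa using h1.symm)))
  refine hxp.trans ?_
  rw [← Nat.card_zpowers]
  exact card_le_of_le (zpowers_le.2 ⟨_, rfl⟩)

end Cfsg.Agent.Lib.ZJFailure
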