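import Mathlib
import Cfsg.Agent.Lib.Qd.Witness

/-!
A section carrying the upper triangular group on a natural module gives an involvement of F(p).
-/

set_option autoImplicit false

namespace Cfsg.Agent.Lib.ZJFailure

open Matrix

variable {p : ℕ} [Fact p.Prime]

/-- The upper triangular subgroup of `SL₂`. -/
def borelSub (F : Type*) [Field F] : Subgroup (SpecialLinearGroup (Fin 2) F) where
  carrier := {M | M 1 0 = 0}
  one_mem' := by simp
  mul_mem' {M N} (hM : M 1 0 = 0) (hN : N 1 0 = 0) := by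
    show (M * N) 1 0 = 0
    rw [SL2.mul_10, hM, hN]; ring
  inv_mem' {M} (hM : M 1 0 = 0) := by
    show M⁻¹ 1 0 = 0
    rw [SL2.inv_10, hM, neg_zero]

theorem mem_borelSub {F : Type*} [Field F] {M : SpecialLinearGroup (Fin 2) F} :
    M ∈ borelSub F ↔ M 1 0 = 0 := Iff.rfl

/-- The affine group over the upper triangular matrices. -/
theorem mk_mem_fOver {F : Type*} [Field F] {A : SpecialLinearGroup (Fin 2) F}
    (hA : A ∈ borelSub F) (v : Fin 2 → F) :
    ((Qd.mk A v : Cfsg.qdOver F) : SpecialLinearGroup (Fin 3) F) ∈ Cfsg.fOver F :=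
  Subgroup.subset_closure ⟨hA, rfl, rfl, rfl⟩

theorem exists_mk_of_mem_fOver {F : Type*} [Field F] {M : SpecialLinearGroup (Fin 3) F}
    (hM : M ∈ Cfsg.fOver F) :
    ∃ A ∈ borelSub F, ∃ v, M = ((Qd.mk A v : Cfsg.qdOver F) : SpecialLinearGroup (Fin 3) F) := by
  have key : Cfsg.fOver F ≤ ((borelSub F).comap Qd.blockHom).map (Cfsg.qdOver F).subtype := by
    refine (Subgroup.closure_le _).2 ?_
    rintro N ⟨h10, h20, h21, h22⟩
    exact ⟨⟨N, Qd.mem_qdOver.2 ⟨h20, h21, h22⟩⟩, h10, rfl⟩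
  obtain ⟨N, hN, rfl⟩ := key hM
  exact ⟨Qd.block N, hN, Qd.vec N, congrArg Subtype.val (Qd.mk_block_vec N).symm⟩

/-- A subgroup `P` mapping onto `F_p²` with two elements of its normaliser acting as a transvection
and a generator of the torus gives an involvement of F(p). -/
theorem involves_fOver_of_witness {G : Type*} [Group G] [Finite G] (hp : p ≠ 2) (P : Subgroup G)
    (ψ : P →* Multiplicative (Fin 2 → ZMod p)) (hψ : Function.Surjective ψ) {a n : G}
    {μ : (ZMod p)ˣ} (hμ : orderOf μ = p - 1)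
    (haP : a ∈ Subgroup.normalizer (P : Set G)) (hnP : n ∈ Subgroup.normalizer (P : Set G))
    (ha : ∀ x : P, ∃ h, (ψ ⟨a * x * a⁻¹, h⟩).toAdd = (SL2.upper (1 : ZMod p)).1 *ᵥ (ψ x).toAdd)
    (hn : ∀ x : P, ∃ h, (ψ ⟨n * x * n⁻¹, h⟩).toAdd = (SL2.diag μ).1 *ᵥ (ψ x).toAdd) :
    Cfsg.Involves ↥(Cfsg.fOver (ZMod p)) G := by
  classical
  have h2 : (2 : ZMod p) ≠ 0 := by
    rw [show (2 : ZMod p) = ((2 : ℕ) : ZMod p) by norm_num, Ne, ZMod.natCast_eq_zero_iff]
    intro h
    exact hp ((Nat.prime_dvd_prime_iff_eq Fact.out Nat.prime_two).1 h)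
  let φ : Subgroup.normalizer (P : Set G) →* MulAut P := Subgroup.normalizerMonoidHom P
  have hφ : ∀ g x, ((φ g x : P) : G) = (g : G) * x * (g : G)⁻¹ := fun _ _ => rfl
  -- the pairs compatible with `ψ`
  let Y : Subgroup (Subgroup.normalizer (P : Set G) × borelSub (ZMod p)) :=
    { carrier := {z | ∀ x, (ψ (φ z.1 x)).toAdd = (z.2 : SpecialLinearGroup (Fin 2) (ZMod p)).1 *ᵥ (ψ x).toAdd}
      one_mem' := fun x => by simp
      mul_mem' := fun {y z} hy hz x => by
        show (ψ (φ (y.1 * z.1) x)).toAdd = _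
        rw [map_mul, MulAut.mul_apply, hy, hz, Matrix.mulVec_mulVec]
        rfl
      inv_mem' := fun {y} hy x => by
        show (ψ (φ y.1⁻¹ x)).toAdd = _
        have h := hy (φ y.1⁻¹ x)
        rw [← MulAut.mul_apply, ← map_mul, mul_inv_cancel, map_one, MulAut.one_apply] at h
        rw [h, Matrix.mulVec_mulVec]
        show _ = ((y.2⁻¹ * y.2 : borelSub (ZMod p)) : SpecialLinearGroup (Fin 2) (ZMod p)).1 *ᵥ _
        rw [inv_mul_cancel]
        exact (Matrix.one_mulVec _).symm }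
  let f : Y →* G := ((Subgroup.normalizer (P : Set G)).subtype.comp (MonoidHom.fst _ _)).comp Y.subtype
  let θ : Y →* borelSub (ZMod p) := (MonoidHom.snd _ _).comp Y.subtype
  have heq : ∀ (y : Y) (x : P), (ψ (φ y.1.1 x)).toAdd =
      (θ y : SpecialLinearGroup (Fin 2) (ZMod p)).1 *ᵥ (ψ x).toAdd := fun y x => y.2 x
  have hθ : Function.Surjective θ := by
    intro B
    have hu : (⟨SL2.upper 1, rfl⟩ : borelSub (ZMod p)) ∈ θ.range :=
      ⟨⟨(⟨a, haP⟩, ⟨SL2.upper 1, rfl⟩), fun x => (ha x).2⟩, rfl⟩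
    have hd : (⟨SL2.diag μ, rfl⟩ : borelSub (ZMod p)) ∈ θ.range :=
      ⟨⟨(⟨n, hnP⟩, ⟨SL2.diag μ, rfl⟩), fun x => (hn x).2⟩, rfl⟩
    have hB0 : (B : SpecialLinearGroup (Fin 2) (ZMod p)) 1 0 = 0 := B.2
    have hdet := SL2.det_entries (B : SpecialLinearGroup (Fin 2) (ZMod p))
    rw [hB0, mul_zero, sub_zero] at hdet
    set u : (ZMod p)ˣ := ⟨_, _, hdet, by rw [mul_comm]; exact hdet⟩ with hu'
    obtain ⟨k, hk⟩ : ∃ k : ℕ, μ ^ k = u := by
      have hmem : u ∈ Subgroup.zpowers μ := by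
        rw [show Subgroup.zpowers μ = ⊤ from Subgroup.eq_top_of_card_eq _ (by
          rw [Nat.card_zpowers, hμ, Nat.card_eq_fintype_card, ZMod.card_units])]
        trivial
      exact mem_powers_iff_mem_zpowers.2 hmem
    set c := (B : SpecialLinearGroup (Fin 2) (ZMod p)) 0 1 * (u : ZMod p) with hc
    show B ∈ θ.range
    have hB : B = (⟨SL2.upper 1, rfl⟩ : borelSub (ZMod p)) ^ c.val * ⟨SL2.diag μ, rfl⟩ ^ k := by
      apply Subtype.ext
      show _ = SL2.upper (1 : ZMod p) ^ c.val * (SL2.diagHom μ) ^ k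
      rw [← map_pow, hk, SL2.upper_pow, mul_one, ZMod.natCast_zmod_val]
      have h1 : (u : ZMod p) * ((u⁻¹ : (ZMod p)ˣ) : ZMod p) = 1 := Units.mul_inv u
      apply SL2.ext_entries <;> simp only [SL2.diagHom, MonoidHom.coe_mk, OneHom.coe_mk, SL2.mul_00,
        SL2.mul_01, SL2.mul_10, SL2.mul_11, SL2.upper_00, SL2.upper_01, SL2.upper_10, SL2.upper_11,
        SL2.diag_00, SL2.diag_01, SL2.diag_10, SL2.diag_11, one_mul, mul_zero, zero_mul, add_zero,
        zero_add, hB0, hc]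
      · rfl
      · rw [mul_assoc, h1, mul_one]
      · rfl
    rw [hB]
    exact mul_mem (pow_mem hu _) (pow_mem hd _)
  -- the element `-1` of the torus, and a Sylow `2`-subgroup over it
  let negI : borelSub (ZMod p) := ⟨-1, by simp [mem_borelSub]⟩
  set Z : Subgroup (borelSub (ZMod p)) := Subgroup.zpowers negI with hZ
  have hcen : negI ∈ Subgroup.center (borelSub (ZMod p)) := Subgroup.mem_center_iff.2 fun g =>
    Subtype.ext (Subgroup.mem_center_iff.1 (SL2.neg_one_mem_center (F := ZMod p)) g)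
  haveI : Z.Normal := ⟨fun x hx g => by
    obtain ⟨k, rfl⟩ := Subgroup.mem_zpowers_iff.1 hx
    rw [Subgroup.mem_center_iff.1 (Subgroup.zpow_mem _ hcen k) g, mul_inv_cancel_right]
    exact hx⟩
  set M : Subgroup Y := Z.comap θ with hM
  haveI : M.Normal := Subgroup.Normal.comap inferInstance θ
  haveI : Fact (Nat.Prime 2) := ⟨Nat.prime_two⟩
  let T : Sylow 2 M := default
  set T' : Subgroup Y := (T : Subgroup M).map M.subtype with hT'
  set N : Subgroup Y := Subgroup.normalizer (T' : Set Y) with hN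
  have hfr : N ⊔ M = ⊤ := Sylow.normalizer_sup_eq_top T
  obtain ⟨t, htT, ht⟩ : ∃ t ∈ T', θ t = negI := by
    let θM : M →* Z := θ.subgroupComap Z
    have hs : Function.Surjective θM := by
      rintro ⟨z, hz⟩
      obtain ⟨y, rfl⟩ := hθ z
      exact ⟨⟨y, hz⟩, rfl⟩
    have hZ2 : IsPGroup 2 Z := fun z => ⟨1, by
      obtain ⟨k, hk⟩ := Subgroup.mem_zpowers_iff.1 z.2
      apply Subtype.ext
      rw [pow_one, Subgroup.coe_pow, ← hk, ← zpow_natCast, ← _root_.zpow_mul, mul_comm,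
        _root_.zpow_mul, zpow_natCast, show negI ^ 2 = 1 from Subtype.ext (by simp [negI]),
        _root_.one_zpow]
      rfl⟩
    have htop : ((T.mapSurjective hs : Sylow 2 Z) : Subgroup Z) = ⊤ :=
      ((T.mapSurjective hs).3 (Q := ⊤) (hZ2.to_subgroup _) le_top).symm
    rw [Sylow.coe_mapSurjective] at htop
    obtain ⟨m, hm, hmz⟩ : (⟨negI, Subgroup.mem_zpowers _⟩ : Z) ∈ (T : Subgroup M).map θM :=
      htop ▸ Subgroup.mem_top _
    exact ⟨m, ⟨m, hm, rfl⟩, congrArg Subtype.val hmz⟩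
  have hθN : Function.Surjective (θ.comp N.subtype) := by
    rw [← MonoidHom.range_eq_top, MonoidHom.range_comp, Subgroup.range_subtype, eq_top_iff]
    intro A _
    obtain ⟨y, rfl⟩ := hθ A
    have hy : y ∈ N ⊔ M := hfr ▸ Subgroup.mem_top y
    have hle : (N ⊔ M).map θ ≤ N.map θ := by
      rw [Subgroup.map_sup]
      refine sup_le le_rfl ((Subgroup.map_comap_le θ Z).trans ?_)
      rw [hZ, Subgroup.zpowers_le, ← ht]
      exact Subgroup.mem_map_of_mem θ (Subgroup.le_normalizer htT)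
    exact hle (Subgroup.mem_map_of_mem θ hy)
  -- the semidirect product and its two images
  let φN : N →* MulAut P :=
    φ.comp (((MonoidHom.fst _ _).comp Y.subtype).comp N.subtype)
  let toG : P ⋊[φN] N →* G := SemidirectProduct.lift P.subtype (f.comp N.subtype) (fun y => by
    refine MonoidHom.ext fun x => ?_
    exact hφ _ x)
  let toQd : P ⋊[φN] N →* Cfsg.qdOver (ZMod p) :=
    SemidirectProduct.lift (Qd.translHom.comp ψ)
      (((Qd.emb.comp (borelSub (ZMod p)).subtype).comp θ).comp N.subtype) (fun y => by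
      refine MonoidHom.ext fun x => ?_
      change Qd.mk 1 (ψ (φ y.1.1.1 x)).toAdd =
        Qd.emb (θ y.1).1 * Qd.mk 1 (ψ x).toAdd * (Qd.emb (θ y.1).1)⁻¹
      rw [Qd.conj_transl, heq, Qd.emb_apply, Qd.block_mk])
  have hker : toG.ker ≤ toQd.ker := by
    rintro ⟨x, y⟩ hxy
    rw [MonoidHom.mem_ker] at hxy ⊢
    change (x : G) * f y = 1 at hxy
    change Qd.mk 1 (ψ x).toAdd * Qd.emb (θ y).1 = 1
    have hfy : ((y : Y).1.1 : G) = (x : G)⁻¹ := eq_inv_of_mul_eq_one_right hxy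
    have hθy : θ y = 1 := by
      have hv : ∀ w : Fin 2 → ZMod p, (θ y).1.1 *ᵥ w = w := by
        intro w
        obtain ⟨v, hv⟩ := hψ (Multiplicative.ofAdd w)
        have h1 : φ (y : Y).1.1 v = x⁻¹ * v * x := Subtype.ext (by
          rw [hφ, hfy]; simp)
        have h2 := heq y v
        rw [h1] at h2
        simp only [map_mul, map_inv, toAdd_mul, toAdd_inv, hv, toAdd_ofAdd] at h2
        simpa using h2.symm
      apply Subtype.ext
      apply SL2.ext_entries
      · simpa [Matrix.mulVec, dotProduct, Fin.sum_univ_two] using congrFun (hv ![1, 0]) 0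
      · simpa [Matrix.mulVec, dotProduct, Fin.sum_univ_two] using congrFun (hv ![0, 1]) 0
      · simpa [Matrix.mulVec, dotProduct, Fin.sum_univ_two] using congrFun (hv ![1, 0]) 1
      · simpa [Matrix.mulVec, dotProduct, Fin.sum_univ_two] using congrFun (hv ![0, 1]) 1
    have hψx : (ψ x).toAdd = 0 := by
      have hc : (y : Y) * t * (y : Y)⁻¹ * t⁻¹ ∈ T' :=
        mul_mem ((Subgroup.mem_normalizer_iff.1 y.2 t).1 htT) (inv_mem htT)
      obtain ⟨m, hm, hmc⟩ := hc
      obtain ⟨k, hk⟩ := T.2 ⟨m, hm⟩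
      have hk' : ((y : Y) * t * (y : Y)⁻¹ * t⁻¹) ^ 2 ^ k = 1 := by
        rw [← hmc]
        exact congrArg (fun z : (T : Subgroup M) => ((z : M) : Y)) hk
      have hjx : P.subtype (x⁻¹ * φ t.1.1 x) = f ((y : Y) * t * (y : Y)⁻¹ * t⁻¹) := by
        simp only [map_mul, map_inv, Subgroup.coe_subtype, hφ]
        rw [show f (y : Y) = (x : G)⁻¹ from hfy, show f t = ((t.1.1 : G)) from rfl, inv_inv]
        group
      have h1 : (x⁻¹ * φ t.1.1 x) ^ 2 ^ k = 1 :=
        Subgroup.subtype_injective P (by rw [map_pow, hjx, ← map_pow, hk', map_one, map_one])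
      have h3 := congrArg (fun z => (ψ z).toAdd) h1
      simp only [map_pow, map_mul, map_inv, map_one, toAdd_pow, toAdd_mul, toAdd_inv, toAdd_one,
        heq, ht] at h3
      funext i
      have h4 := congrFun h3 i
      rw [show (negI : SpecialLinearGroup (Fin 2) (ZMod p)).1 = -1 from rfl, Matrix.neg_mulVec,
        Matrix.one_mulVec] at h4
      simp only [Pi.smul_apply, Pi.add_apply, Pi.neg_apply, Pi.zero_apply, nsmul_eq_mul,
        Nat.cast_pow, Nat.cast_ofNat] at h4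
      rcases mul_eq_zero.1 h4 with h5 | h5
      · exact absurd h5 (pow_ne_zero _ h2)
      · show (ψ x).toAdd i = 0
        have h6 : (2 : ZMod p) * (ψ x).toAdd i = 0 := by linear_combination -h5
        exact (mul_eq_zero.1 h6).resolve_left h2
    rw [hψx, hθy, OneMemClass.coe_one, map_one, Qd.mk_one_zero, one_mul]
  let toF : P ⋊[φN] N →* Cfsg.fOver (ZMod p) :=
    ((Cfsg.qdOver (ZMod p)).subtype.comp toQd).codRestrict _ fun z => by
      show ((Qd.mk 1 (ψ z.left).toAdd * Qd.emb (θ z.right).1 : Cfsg.qdOver (ZMod p)) :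
        SpecialLinearGroup (Fin 3) (ZMod p)) ∈ Cfsg.fOver (ZMod p)
      rw [← Qd.mk_eq]
      exact mk_mem_fOver (θ z.right).2 _
  have hkerF : toG.ker ≤ toF.ker := fun z hz => by
    rw [MonoidHom.mem_ker]
    apply Subtype.ext
    show ((toQd z : Cfsg.qdOver (ZMod p)) : SpecialLinearGroup (Fin 3) (ZMod p)) = _
    rw [show toQd z = 1 from hker hz]
    rfl
  have hsurj : Function.Surjective toF := by
    rintro ⟨M', hM'⟩
    obtain ⟨A, hA, v, rfl⟩ := exists_mk_of_mem_fOver hM'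
    obtain ⟨x, hx⟩ := hψ (Multiplicative.ofAdd v)
    obtain ⟨y, hy⟩ := hθN ⟨A, hA⟩
    refine ⟨SemidirectProduct.inl x * SemidirectProduct.inr y, Subtype.ext ?_⟩
    show ((toQd (SemidirectProduct.inl x * SemidirectProduct.inr y) : Cfsg.qdOver (ZMod p)) :
      SpecialLinearGroup (Fin 3) (ZMod p)) = _
    rw [map_mul, SemidirectProduct.lift_inl, SemidirectProduct.lift_inr]
    change ((Qd.mk 1 (ψ x).toAdd * Qd.emb (θ y).1 : Cfsg.qdOver (ZMod p)) :
      SpecialLinearGroup (Fin 3) (ZMod p)) = _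
    rw [hx, show θ y = ⟨A, hA⟩ from hy, ← Qd.mk_eq]
    rfl
  let g : toG.range →* Cfsg.fOver (ZMod p) :=
    toG.rangeRestrict.liftOfSurjective toG.rangeRestrict_surjective
      ⟨toF, by rw [MonoidHom.ker_rangeRestrict]; exact hkerF⟩
  refine Involves.of_surjective g ?_
  intro z
  obtain ⟨w, hw⟩ := hsurj z
  refine ⟨toG.rangeRestrict w, ?_⟩
  rw [← hw]
  exact MonoidHom.liftOfRightInverse_comp_apply _ _ _ _ w

end Cfsg.Agent.Lib.ZJFailure
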