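import Mathlib
import Cfsg.Agent.Lib.Functor.Basic
import Cfsg.Agent.Lib.PSolvable.Core

/-!
A Baer-type pair relative to a subgroup containing a Sylow subgroup.
-/

set_option autoImplicit false

namespace Cfsg.Agent.Lib.ZJFailure

open Subgroup Functor

variable {G : Type*} [Group G] [Finite G] {p : ℕ} [Fact p.Prime]

/-- A `p`-subgroup of `M0` lies in a Sylow subgroup of `G` inside `M0`. -/
theorem exists_sylow_le {M0 I : Subgroup G} (T : Sylow p G) (hTM : (T : Subgroup G) ≤ M0)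
    (hI : I ≤ M0) (hIp : IsPGroup p I) :
    ∃ T' : Sylow p G, (T' : Subgroup G) ≤ M0 ∧ I ≤ (T' : Subgroup G) := by
  obtain ⟨m, hm, hmI⟩ := ((isSylowIn_top_of_sylow T).inter hTM le_top).exists_cj_le hI hIp
  refine ⟨m⁻¹ • T, fun x hx => ?_, fun x hx => ?_⟩
  · obtain ⟨z, hz, rfl⟩ := hx
    exact mul_mem (mul_mem (inv_mem hm) (hTM hz)) (inv_mem (inv_mem hm))
  · exact ⟨m * x * m⁻¹, hmI (conj_mem_cj hx), by simp [MulAut.conj_apply, mul_assoc]⟩

/-- A conjugation invariant set meets all Sylow subgroups in equally many elements. -/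
theorem ncard_inter_sylow_eq {E : Set G} (hE : ∀ e ∈ E, ∀ g, g * e * g⁻¹ ∈ E) (T T' : Sylow p G) :
    (E ∩ (T : Set G)).ncard = (E ∩ (T' : Set G)).ncard := by
  suffices h : ∀ T T' : Sylow p G, (E ∩ (T : Set G)).ncard ≤ (E ∩ (T' : Set G)).ncard from
    le_antisymm (h T T') (h T' T)
  intro T T'
  obtain ⟨g, rfl⟩ := MulAction.exists_smul_eq G T T'
  refine Set.ncard_le_ncard_of_injOn (fun x => g * x * g⁻¹) ?_
    (fun x _ y _ h => by simpa using h) (Set.toFinite _)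
  rintro x ⟨hxE, hxT⟩
  exact ⟨hE x hxE g, x, hxT, rfl⟩

omit [Finite G] [Fact p.Prime] in
theorem normalizer_le_of_invariant {E : Set G} (hE : ∀ e ∈ E, ∀ g, g * e * g⁻¹ ∈ E) (H : Subgroup G) :
    normalizer (H : Set G) ≤ normalizer ((closure (E ∩ (H : Set G)) : Subgroup G) : Set G) := by
  intro g hg
  have key : ∀ g ∈ normalizer (H : Set G), cj g (closure (E ∩ (H : Set G))) ≤
      closure (E ∩ (H : Set G)) := by
    intro g hg
    rw [cj, MonoidHom.map_closure, closure_le]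
    rintro _ ⟨x, ⟨hxE, hxH⟩, rfl⟩
    exact subset_closure ⟨hE x hxE g, (mem_normalizer_iff.1 hg x).1 hxH⟩
  refine mem_normalizer_iff.2 fun x => ⟨fun hx => key g hg (conj_mem_cj hx), fun hx => ?_⟩
  simpa [mul_assoc] using key g⁻¹ (inv_mem hg) (conj_mem_cj hx)

/-- Inside a Sylow subgroup containing an element of `E` outside `I`, some such element
normalises `I`. -/
theorem exists_normalizing {E : Set G} (hE : ∀ e ∈ E, ∀ g, g * e * g⁻¹ ∈ E) (T : Sylow p G)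
    {I : Subgroup G} (hI : I = closure (E ∩ (I : Set G))) (hIT : I ≤ T)
    (hne : ¬ E ∩ (T : Set G) ⊆ (I : Set G)) :
    ∃ a ∈ E, a ∈ (T : Subgroup G) ∧ a ∉ I ∧ a ∈ normalizer (I : Set G) := by
  by_contra hcon
  push Not at hcon
  set L := (T : Subgroup G) ⊓ normalizer (I : Set G) with hL
  have hEL : E ∩ (L : Set G) = E ∩ (I : Set G) := by
    ext x
    constructor
    · rintro ⟨hxE, hxT, hxN⟩
      exact ⟨hxE, by_contra fun h => hcon x hxE hxT h hxN⟩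
    · rintro ⟨hxE, hxI⟩
      exact ⟨hxE, hIT hxI, le_normalizer hxI⟩
  have hLN : normalizer (L : Set G) ≤ normalizer (I : Set G) := by
    have := normalizer_le_of_invariant hE L
    rwa [hEL, ← hI] at this
  have hLT : L = T := by
    by_contra h
    have hlt := lt_inf_normalizer T.2 (inf_le_left : L ≤ T) h
    exact hlt.not_ge (le_inf inf_le_left (inf_le_right.trans hLN))
  refine hne fun x hx => ?_
  have : x ∈ E ∩ (L : Set G) := ⟨hx.1, by rw [hLT]; exact hx.2⟩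
  rw [hEL] at this
  exact this.2

/-- The pair. -/
theorem exists_pair {M0 : Subgroup G} (T : Sylow p G) (hTM : (T : Subgroup G) ≤ M0) {E : Set G}
    (hE : ∀ e ∈ E, ∀ g, g * e * g⁻¹ ∈ E) (hEp : ∀ e ∈ E, ∃ i, e ^ p ^ i = 1)
    (hEM : ∃ e ∈ E, e ∉ M0) :
    ∃ (J : Subgroup G) (a b : G), IsPGroup p J ∧ J ≤ M0 ∧ a ∈ E ∧ a ∈ M0 ∧ b ∈ E ∧ b ∉ M0 ∧
      a ∈ normalizer (J : Set G) ∧ b ∈ normalizer (J : Set G) ∧
      ∃ (R : Subgroup G), R = closure ((J : Set G) ∪ {a, b}) ∧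
        ∃ X : Sylow p R, (∀ h : a ∈ R, (⟨a, h⟩ : R) ∈ (X : Subgroup R)) ∧
          ∀ e : R, e ∈ (X : Subgroup R) → (e : G) ∈ E → (e : G) ∈ M0 := by
  classical
  obtain ⟨e, heE, heM⟩ := hEM
  have hez : IsPGroup p (zpowers e) := by
    obtain ⟨i, hi⟩ := hEp e heE
    rintro ⟨_, k, rfl⟩
    refine ⟨i, Subtype.ext ?_⟩
    show (e ^ k) ^ p ^ i = 1
    rw [← zpow_natCast, ← _root_.zpow_mul, mul_comm, _root_.zpow_mul, zpow_natCast, hi,
      _root_.one_zpow]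
  obtain ⟨Te, hTe⟩ := hez.exists_le_sylow
  obtain ⟨⟨T1, T3⟩, ⟨hT1, hT3⟩, hmax⟩ := Set.exists_max_image
    {q : Sylow p G × Sylow p G | (q.1 : Subgroup G) ≤ M0 ∧ ¬ E ∩ (q.2 : Set G) ⊆ (M0 : Set G)}
    (fun q => (E ∩ (q.1 : Set G) ∩ (q.2 : Set G)).ncard) (Set.toFinite _)
    ⟨⟨T, Te⟩, hTM, fun h => heM (h ⟨heE, hTe (mem_zpowers e)⟩)⟩
  dsimp only at hT1 hT3 hmax
  have hgrow : ∀ T1' T3' : Sylow p G, (T1' : Subgroup G) ≤ M0 →
      E ∩ (T1 : Set G) ∩ (T3 : Set G) ⊆ E ∩ (T1' : Set G) ∩ (T3' : Set G) →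
      ∀ z, z ∈ E → z ∈ (T1' : Subgroup G) → z ∈ (T3' : Subgroup G) →
      ¬ (z ∈ (T1 : Subgroup G) ∧ z ∈ (T3 : Subgroup G)) → E ∩ (T3' : Set G) ⊆ (M0 : Set G) := by
    intro T1' T3' h1 hsub z hzE hz1 hz3 hz
    by_contra h
    have hlt : (E ∩ (T1 : Set G) ∩ (T3 : Set G)).ncard < (E ∩ (T1' : Set G) ∩ (T3' : Set G)).ncard :=
      Set.ncard_lt_ncard (ssubset_iff_subset_ne.2 ⟨hsub, fun he => hz (by
        have : z ∈ E ∩ (T1 : Set G) ∩ (T3 : Set G) := he ▸ ⟨⟨hzE, hz1⟩, hz3⟩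
        exact ⟨this.1.2, this.2⟩)⟩) (Set.toFinite _)
    exact absurd (hmax (T1', T3') ⟨h1, h⟩) (not_le_of_gt hlt)
  set J := closure (E ∩ (T1 : Set G) ∩ (T3 : Set G)) with hJ
  have hJ1 : J ≤ T1 := (closure_le _).2 fun x hx => hx.1.2
  have hJ3 : J ≤ T3 := (closure_le _).2 fun x hx => hx.2
  have hJE : J = closure (E ∩ (J : Set G)) :=
    le_antisymm ((closure_le _).2 fun x hx => subset_closure ⟨hx.1.1, subset_closure hx⟩)
      ((closure_le _).2 fun x hx => hx.2)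
  obtain ⟨a, haE, haT, haJ, haN⟩ := exists_normalizing hE T1 hJE hJ1 (fun h => by
    have hsub : E ∩ (T1 : Set G) ⊆ E ∩ (T3 : Set G) := fun x hx => ⟨hx.1, hJ3 (h hx)⟩
    have heq := Set.eq_of_subset_of_ncard_le hsub (ncard_inter_sylow_eq hE T3 T1).le (Set.toFinite _)
    exact hT3 (heq ▸ fun x hx => hT1 hx.2))
  have ha13 : ¬ (a ∈ (T1 : Subgroup G) ∧ a ∈ (T3 : Subgroup G)) := fun h =>
    haJ (subset_closure ⟨⟨haE, h.1⟩, h.2⟩)
  -- an element of `E` outside `M0` normalising `J`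
  obtain ⟨b, hbE, hbM, hbN⟩ : ∃ b ∈ E, b ∉ M0 ∧ b ∈ normalizer (J : Set G) := by
    by_contra hcon
    push Not at hcon
    obtain ⟨b, hbE, hbT, hbJ, hbN⟩ := exists_normalizing hE T3 hJE hJ3
      (fun h => hT3 fun x hx => hT1 (hJ1 (h hx)))
    have hbM : b ∈ M0 := by_contra fun h => hcon b hbE h hbN
    set L := closure (E ∩ (((T3 : Subgroup G) ⊓ normalizer (J : Set G) : Subgroup G) : Set G)) with hLd
    have hLM : L ≤ M0 := (closure_le _).2 fun x hx => by_contra fun h => hcon x hx.1 h hx.2.2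
    obtain ⟨T1', hT1', hLT⟩ := exists_sylow_le T hTM hLM
      (T3.2.to_le ((closure_le _).2 fun x hx => hx.2.1))
    refine hT3 (hgrow T1' T3 hT1' ?_ b hbE (hLT (subset_closure ⟨hbE, hbT, hbN⟩)) hbT
      (fun h => hbJ (subset_closure ⟨⟨hbE, h.1⟩, h.2⟩)))
    rintro x ⟨⟨hxE, hx1⟩, hx3⟩
    exact ⟨⟨hxE, hLT (subset_closure ⟨hxE, hx3, le_normalizer (subset_closure ⟨⟨hxE, hx1⟩, hx3⟩)⟩)⟩, hx3⟩
  refine ⟨J, a, b, T1.2.to_le hJ1, hJ1.trans hT1, haE, hT1 haT, hbE, hbM, haN, hbN, _, rfl, ?_⟩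
  set R := closure ((J : Set G) ∪ {a, b}) with hR
  set I := closure ((J : Set G) ∪ {a}) with hIdef
  have hI1 : I ≤ T1 := (closure_le _).2 (by
    rintro x (hx | rfl)
    · exact hJ1 hx
    · exact haT)
  have hIR : I ≤ R := (closure_le _).2 (by
    rintro x (hx | rfl)
    · exact subset_closure (Or.inl hx)
    · exact subset_closure (Or.inr (Or.inl rfl)))
  obtain ⟨X, hX⟩ := ((T1.2.to_le hI1).comap_of_injective R.subtype R.subtype_injective :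
    IsPGroup p (I.subgroupOf R)).exists_le_sylow
  refine ⟨X, fun h => hX (mem_subgroupOf.2 (subset_closure (Or.inr rfl))), ?_⟩
  intro z hzX hzE
  obtain ⟨T4, hT4⟩ := (X.2.map R.subtype).exists_le_sylow
  have hI4 : I ≤ (T4 : Subgroup G) := fun x hx =>
    hT4 ⟨⟨x, hIR hx⟩, hX (mem_subgroupOf.2 hx), rfl⟩
  refine hgrow T1 T4 hT1 ?_ a haE haT (hI4 (subset_closure (Or.inr rfl))) ha13
    ⟨hzE, hT4 ⟨z, hzX, rfl⟩⟩
  rintro x ⟨⟨hxE, hx1⟩, hx3⟩
  exact ⟨⟨hxE, hx1⟩, hI4 (subset_closure (Or.inl (subset_closure ⟨⟨hxE, hx1⟩, hx3⟩)))⟩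

end Cfsg.Agent.Lib.ZJFailure
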