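import Mathlib
import Cfsg.Agent.Lib.Qd.Involved
import Cfsg.Agent.Lib.Qd.NaturalBasis
import Cfsg.Agent.Lib.LinGroup.SLTwoSylow

/-!
A group of unipotent-generated type in `SL₂(F)` containing a copy of `SL₂(p)`: a given unipotent
element and a torus element of order `p - 1` are upper triangular in a common basis.
-/

set_option autoImplicit false

namespace Cfsg.Agent.Lib.ZJFailure

open Matrix
open scoped Pointwise

variable {F : Type*} [Field F] [Finite F] {p : ℕ} [Fact p.Prime] [CharP F p]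

/-- A generator of the multiplicative group of the prime field. -/
theorem exists_unit_orderOf (p : ℕ) [Fact p.Prime] :
    ∃ μ : (ZMod p)ˣ, orderOf μ = p - 1 := by
  obtain ⟨g, hg⟩ := IsCyclic.exists_generator (α := (ZMod p)ˣ)
  refine ⟨g, ?_⟩
  rw [orderOf_eq_card_of_forall_mem_zpowers hg, Nat.card_eq_fintype_card, ZMod.card_units]

/-- In `Γ ≤ SL₂(F)` containing a copy of `SL₂(p)`, a nontrivial element `a` of order `p` and an
element with eigenvalues `μ^{±1}`, `μ` a generator of the prime field's units, share a basis. -/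
theorem exists_torus_basis (hp : p ≠ 2) {Γ : Subgroup (SpecialLinearGroup (Fin 2) F)}
    (η : SpecialLinearGroup (Fin 2) (ZMod p) →* SpecialLinearGroup (Fin 2) F)
    (hη : Function.Injective η) (hle : η.range ≤ Γ) {a : SpecialLinearGroup (Fin 2) F}
    (haΓ : a ∈ Γ) (ha : a ^ p = 1) (ha1 : a ≠ 1) :
    ∃ (μ : (ZMod p)ˣ) (s : SpecialLinearGroup (Fin 2) F) (Q : Matrix (Fin 2) (Fin 2) F),
      orderOf μ = p - 1 ∧ s ∈ Γ ∧ IsUnit Q.det ∧
      a.1 * Q = Q * (SL2.upper (1 : F)).1 ∧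
      s.1 * Q = Q * !![ZMod.castHom dvd_rfl F (μ : ZMod p), 0;
                      0, ZMod.castHom dvd_rfl F ((μ⁻¹ : (ZMod p)ˣ) : ZMod p)] := by
  haveI : Fintype F := Fintype.ofFinite F
  obtain ⟨P, hP, hηP⟩ := Qd.exists_natural_basis hp η hη
  obtain ⟨μ, hμ⟩ := exists_unit_orderOf p
  set u0 := η (SL2.upper 1) with hu0
  have hu0p : u0 ^ p = 1 := by
    rw [hu0, ← map_pow, SL2.upper_pow, mul_one, ZMod.natCast_self, SL2.upper_zero, map_one]
  have hpg : ∀ x : Γ, x ^ p = 1 → IsPGroup p (Subgroup.zpowers x) := fun x hx =>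
    IsPGroup.of_card (n := Nat.factorization (orderOf x) p) (by
      rw [Nat.card_zpowers]
      rcases (Nat.dvd_prime Fact.out).1 (orderOf_dvd_of_pow_eq_one hx) with h | h
      · rw [h]; simp
      · rw [h, (Fact.out : p.Prime).factorization_self, pow_one])
  -- a conjugate of `u0` inside `Γ` commuting with `a`
  obtain ⟨Pu, hPu⟩ := (hpg ⟨u0, hle ⟨_, rfl⟩⟩ (Subtype.ext hu0p)).exists_le_sylow
  obtain ⟨Pa, hPa⟩ := (hpg ⟨a, haΓ⟩ (Subtype.ext ha)).exists_le_sylow
  obtain ⟨g, hg⟩ := MulAction.exists_smul_eq Γ Pu Pa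
  have hu' : g * (⟨u0, hle ⟨_, rfl⟩⟩ : Γ) * g⁻¹ ∈ (Pa : Subgroup Γ) := by
    rw [← hg]
    exact ⟨_, hPu (Subgroup.mem_zpowers _), rfl⟩
  obtain ⟨T, hT⟩ := (Pa.2.map Γ.subtype).exists_le_sylow
  obtain ⟨k, hk⟩ := LinGroup.exists_conj_upperSub p T
  have hcomm : Commute ((g : SpecialLinearGroup (Fin 2) F) * u0 * (g : SpecialLinearGroup (Fin 2) F)⁻¹) a := by
    have hmem : ∀ x : Γ, x ∈ (Pa : Subgroup Γ) → ∃ t, (x : SpecialLinearGroup (Fin 2) F) =
        k * SL2.upper t * k⁻¹ := by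
      intro x hx
      have h := hT (Subgroup.mem_map_of_mem Γ.subtype hx)
      rw [hk] at h
      obtain ⟨y, hy, hye⟩ := h
      obtain ⟨t, rfl⟩ := LinGroup.mem_upperSub_iff.1 hy
      exact ⟨t, hye.symm⟩
    obtain ⟨t1, h1⟩ := hmem _ hu'
    obtain ⟨t2, h2⟩ := hmem _ (hPa (Subgroup.mem_zpowers _))
    simp only [Subgroup.coe_mul, InvMemClass.coe_inv] at h1 h2
    rw [h1, h2]
    have : Commute (SL2.upper t1) (SL2.upper t2) := by
      show _ * _ = _ * _
      rw [SL2.upper_mul, SL2.upper_mul, add_comm]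
    exact this.map (MulAut.conj k).toMonoidHom
  -- move everything to the basis `g P`
  set P' : Matrix (Fin 2) (Fin 2) F := (g : SpecialLinearGroup (Fin 2) F).1 * P with hP'
  have hP'u : IsUnit P'.det := by
    rw [hP', Matrix.det_mul, (g : SpecialLinearGroup (Fin 2) F).2, one_mul]; exact hP
  haveI : Invertible P' := P'.invertibleOfIsUnitDet hP'u
  let cb : SpecialLinearGroup (Fin 2) F →* SpecialLinearGroup (Fin 2) F :=
    { toFun := fun M => ⟨⅟P' * M.1 * P', by
        rw [Matrix.det_mul, Matrix.det_mul, mul_comm (⅟P').det, mul_assoc, ← Matrix.det_mul,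
          invOf_mul_self, Matrix.det_one, mul_one, M.2]⟩
      map_one' := Subtype.ext (by
        show ⅟P' * (1 : SpecialLinearGroup (Fin 2) F).1 * P' = 1
        rw [show (1 : SpecialLinearGroup (Fin 2) F).1 = 1 from rfl, mul_one, invOf_mul_self])
      map_mul' := fun M N => Subtype.ext (by
        show ⅟P' * (M.1 * N.1) * P' = ⅟P' * M.1 * P' * (⅟P' * N.1 * P')
        simp only [Matrix.mul_assoc, Matrix.mul_invOf_cancel_left]) }
  have hcb : ∀ M, M.1 * P' = P' * (cb M).1 := fun M => by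
    show _ = P' * (⅟P' * M.1 * P')
    rw [Matrix.mul_assoc (⅟P'), Matrix.mul_invOf_cancel_left]
  have hcbinj : ∀ M, cb M = 1 → M = 1 := fun M h => Subtype.ext (by
    have h' := hcb M
    rw [h, show (1 : SpecialLinearGroup (Fin 2) F).1 = 1 from rfl, mul_one] at h'
    have := congrArg (· * ⅟P') h'
    simpa [Matrix.mul_assoc] using this)
  have hgη : ∀ A, cb ((g : SpecialLinearGroup (Fin 2) F) * η A * (g : SpecialLinearGroup (Fin 2) F)⁻¹) =
      Qd.primeMap A := by
    intro A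
    refine Subtype.ext ?_
    have h1 : ((g : SpecialLinearGroup (Fin 2) F) * η A * (g : SpecialLinearGroup (Fin 2) F)⁻¹).1 * P' =
        P' * (Qd.primeMap (K := F) A).1 := by
      rw [hP', ← Matrix.mul_assoc]
      show ((g : SpecialLinearGroup (Fin 2) F) * η A * (g : SpecialLinearGroup (Fin 2) F)⁻¹ * g).1 * P = _
      rw [inv_mul_cancel_right]
      show (g : SpecialLinearGroup (Fin 2) F).1 * (η A).1 * P = _
      rw [Matrix.mul_assoc, hηP, ← Matrix.mul_assoc]
    show ⅟P' * _ * P' = _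
    rw [Matrix.mul_assoc, h1, Matrix.invOf_mul_cancel_left]
  set x := cb a with hx
  have hxu : Commute (SL2.upper (1 : F)) x := by
    have := hcomm.map cb
    rwa [hu0, hgη, Qd.primeMap_upper, map_one] at this
  have hxt : SL2.tr x = 2 := ZJ.tr_eq_two_of_pow (p := p) (by rw [hx, ← map_pow, ha, map_one])
  have e00 := congrArg (fun M : SpecialLinearGroup (Fin 2) F => M 0 0) hxu.eq
  have e01 := congrArg (fun M : SpecialLinearGroup (Fin 2) F => M 0 1) hxu.eq
  simp only [SL2.mul_00, SL2.mul_01, SL2.upper_00, SL2.upper_01, SL2.upper_10, SL2.upper_11] at e00 e01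
  have h10 : x 1 0 = 0 := by linear_combination e00
  have h2 : (2 : F) ≠ 0 := SL2Unipotent.two_ne_zero' hp
  have h00 : x 0 0 = 1 := by
    simp only [SL2.tr] at hxt
    refine mul_left_cancel₀ h2 ?_
    linear_combination hxt - e01
  have h11 : x 1 1 = 1 := by
    simp only [SL2.tr] at hxt
    linear_combination hxt - h00
  set κ := x 0 1 with hκ
  have hκ0 : κ ≠ 0 := by
    intro h
    refine ha1 (hcbinj a ?_)
    rw [← hx]
    apply SL2.ext_entries <;> simp [h00, h10, h11, ← hκ, h]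
  set d : Matrix (Fin 2) (Fin 2) F := !![κ, 0; 0, 1] with hd
  refine ⟨μ, (g : SpecialLinearGroup (Fin 2) F) * η (SL2.diag μ) * (g : SpecialLinearGroup (Fin 2) F)⁻¹,
    P' * d, hμ, mul_mem (mul_mem g.2 (hle ⟨_, rfl⟩)) (inv_mem g.2), ?_, ?_, ?_⟩
  · rw [Matrix.det_mul, hd, Matrix.det_fin_two_of]
    exact hP'u.mul (by simpa using isUnit_iff_ne_zero.2 hκ0)
  · rw [← Matrix.mul_assoc, hcb, ← hx, Matrix.mul_assoc P' _ d, Matrix.mul_assoc P' d]
    congr 1
    ext i j
    fin_cases i <;> fin_cases j <;>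
      simp [hd, Matrix.mul_apply, Fin.sum_univ_two, h00, h10, h11, ← hκ]
  · rw [← Matrix.mul_assoc, hcb, hgη, Matrix.mul_assoc P' _ d, Matrix.mul_assoc P' d]
    congr 1
    ext i j
    fin_cases i <;> fin_cases j <;>
      simp only [hd, Matrix.mul_apply, Fin.sum_univ_two, Qd.primeMap_apply, Fin.zero_eta, Fin.mk_one,
        Fin.isValue, Matrix.of_apply, Matrix.cons_val', Matrix.cons_val_zero, Matrix.cons_val_one,
        Matrix.cons_val_fin_one, SL2.diag_00, SL2.diag_01, SL2.diag_10, SL2.diag_11, map_zero,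
        mul_zero, zero_mul, add_zero, zero_add, mul_one, one_mul] <;> ring

end Cfsg.Agent.Lib.ZJFailure
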