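import Mathlib
import Cfsg.Agent.Lib.Qd.Involved
import Cfsg.Agent.Lib.ZJFailure.SL2Torus

/-!
An irreducible module for a group generated by a trivially acting subgroup and two quadratic
elements, not acting as a `p`-group: natural coordinates over a finite field.
-/

set_option autoImplicit false

namespace Cfsg.Agent.Lib.ZJFailure

open Matrix

universe u v

set_option maxHeartbeats 800000

variable {X : Type u} [Group X] [Finite X] {p : ℕ} [Fact p.Prime]

theorem induction_three {J : Subgroup X} {a b : X}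
    (hgen : Subgroup.closure ((J : Set X) ∪ {a, b}) = ⊤) {motive : X → Prop}
    (h1 : motive 1) (hj : ∀ j ∈ J, ∀ x, motive x → motive (j * x))
    (ha : ∀ x, motive x → motive (a * x)) (hb : ∀ x, motive x → motive (b * x))
    (x : X) : motive x := by
  have hx : x ∈ Submonoid.closure ((J : Set X) ∪ {a, b}) := by
    rw [← Subgroup.closure_toSubmonoid_of_finite, hgen]; trivial
  induction hx using Submonoid.closure_induction_left with
  | one => exact h1
  | mul_left z hz y _ ih =>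
    rcases hz with hz | rfl | rfl
    · exact hj z hz y ih
    · exact ha y ih
    · exact hb y ih

/-- Natural coordinates on an irreducible module. -/
theorem exists_natural_coords (hp : p ≠ 2) {J : Subgroup X} {a b g : X}
    (hgen : Subgroup.closure ((J : Set X) ∪ {a, b}) = ⊤) {M : Type v} [AddCommGroup M] [Finite M]
    (hM : ∀ v : M, p • v = 0) (ρ : X →* AddMonoid.End M) (hJ : ∀ j ∈ J, ρ j = 1)
    (ha : (ρ a - 1) * (ρ a - 1) = 0) (hb : (ρ b - 1) * (ρ b - 1) = 0)
    (hg : ∀ i, ρ (g ^ p ^ i) ≠ 1)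
    (hirr : ∀ U : AddSubgroup M, (∀ v ∈ U, ρ a v ∈ U ∧ ρ b v ∈ U) → U = ⊥ ∨ U = ⊤) :
    ∃ (K : Type v) (_ : Field K) (_ : Finite K) (_ : CharP K p)
      (χ : (Fin 2 → K) ≃+ M) (Θ : X →* SpecialLinearGroup (Fin 2) K) (cc : K),
      (∀ x m, ρ x (χ m) = χ ((Θ x).1 *ᵥ m)) ∧ cc ≠ 0 ∧ Θ a = SL2.upper cc ∧
        Θ b = SL2.lower 1 ∧
        (∃ η : SpecialLinearGroup (Fin 2) (ZMod p) →* SpecialLinearGroup (Fin 2) K,
          Function.Injective η ∧ η.range ≤ Θ.range) := by
  classical
  obtain ⟨α, hρa⟩ : ∃ α, ρ a = 1 + α := ⟨ρ a - 1, (add_sub_cancel _ _).symm⟩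
  obtain ⟨β, hρb⟩ : ∃ β, ρ b = 1 + β := ⟨ρ b - 1, (add_sub_cancel _ _).symm⟩
  rw [hρa, add_sub_cancel_left] at ha
  rw [hρb, add_sub_cancel_left] at hb
  have hα : ∀ v, α (α v) = 0 := fun v => DFunLike.congr_fun ha v
  have hβ : ∀ v, β (β v) = 0 := fun v => DFunLike.congr_fun hb v
  have hinv : ∀ U : AddSubgroup M, (∀ v ∈ U, α v ∈ U) → (∀ v ∈ U, β v ∈ U) → U = ⊥ ∨ U = ⊤ := by
    intro U h1 h2
    refine hirr U fun v hv => ⟨?_, ?_⟩
    · rw [hρa]; exact U.add_mem hv (h1 v hv)
    · rw [hρb]; exact U.add_mem hv (h2 v hv)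
  have htriv : α = 0 → β = 0 → False := by
    intro h1 h2
    refine hg 0 ?_
    refine induction_three hgen (motive := fun x => ρ x = 1) (map_one ρ) ?_ ?_ ?_ _
    · intro j hj x hx; rw [map_mul, hx, hJ j hj, one_mul]
    · intro x hx; rw [map_mul, hx, hρa, h1, add_zero, one_mul]
    · intro x hx; rw [map_mul, hx, hρb, h2, add_zero, one_mul]
  set c := α * β + β * α with hc
  have hc0 : c ≠ 0 := by
    intro h0
    have hneg : ∀ v, α (β v) + β (α v) = 0 := fun v => DFunLike.congr_fun h0 v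
    have hrange : ∀ γ : AddMonoid.End M, γ * γ = 0 →
        AddMonoidHom.range (γ : M →+ M) = ⊥ ∨ AddMonoidHom.range (γ : M →+ M) = ⊤ → γ = 0 := by
      rintro γ hγ (h | h)
      · exact AddMonoidHom.range_eq_bot_iff.mp h
      · ext v
        obtain ⟨w, hw⟩ := AddMonoidHom.mem_range.mp (h ▸ AddSubgroup.mem_top v)
        rw [← hw]; exact DFunLike.congr_fun hγ w
    have hα0 : α = 0 := by
      refine hrange α ha (hinv _ ?_ ?_)
      · rintro _ ⟨w, rfl⟩; exact ⟨α w, rfl⟩
      · rintro _ ⟨w, rfl⟩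
        exact ⟨-(β w), ((α : M →+ M).map_neg (β w)).trans (neg_eq_of_add_eq_zero_right (hneg w))⟩
    refine htriv hα0 (hrange β hb (hinv _ ?_ ?_))
    · rintro _ ⟨w, rfl⟩; rw [hα0]; exact zero_mem _
    · rintro _ ⟨w, rfl⟩; exact ⟨β w, rfl⟩
  have hcα : Commute α c := by
    show α * c = c * α
    rw [hc, mul_add, add_mul, ← mul_assoc α α β, ha, zero_mul, zero_add, mul_assoc β α α, ha,
      mul_zero, add_zero, mul_assoc]
  have hcβ : Commute β c := by
    show β * c = c * β
    rw [hc, mul_add, add_mul, ← mul_assoc β β α, hb, zero_mul, add_zero, mul_assoc α β β, hb,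
      mul_zero, zero_add, mul_assoc]
  have hker : ∀ r : AddMonoid.End M, Commute α r → Commute β r → r ≠ 0 → Function.Injective r := by
    intro r h1 h2 hr
    have hk : ∀ t : AddMonoid.End M, Commute t r →
        ∀ v ∈ AddMonoidHom.ker (r : M →+ M), t v ∈ AddMonoidHom.ker (r : M →+ M) := by
      intro t ht v hv
      change r v = 0 at hv
      change r (t v) = 0
      have := DFunLike.congr_fun ht.eq v
      simp only [AddMonoid.End.coe_mul, Function.comp_apply, hv, map_zero] at this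
      exact this.symm
    rcases hinv (AddMonoidHom.ker r) (hk α h1) (hk β h2) with h | h
    · exact (AddMonoidHom.ker_eq_bot_iff r).mp h
    · exfalso
      refine hr ?_
      ext v
      exact (show v ∈ AddMonoidHom.ker (r : M →+ M) from h ▸ AddSubgroup.mem_top v)
  -- the field generated by `c`
  set C0 : Subring (AddMonoid.End M) := Subring.closure {c} with hC0
  have hcomm : ∀ r ∈ C0, Commute α r ∧ Commute β r := by
    intro r hr
    induction hr using Subring.closure_induction with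
    | mem x hx => rw [Set.mem_singleton_iff.1 hx]; exact ⟨hcα, hcβ⟩
    | zero => exact ⟨Commute.zero_right _, Commute.zero_right _⟩
    | one => exact ⟨Commute.one_right _, Commute.one_right _⟩
    | add x y _ _ hx hy => exact ⟨hx.1.add_right hy.1, hx.2.add_right hy.2⟩
    | neg x _ hx => exact ⟨hx.1.neg_right, hx.2.neg_right⟩
    | mul x y _ _ hx hy => exact ⟨hx.1.mul_right hy.1, hx.2.mul_right hy.2⟩
  haveI : Finite (AddMonoid.End M) :=
    Finite.of_injective (fun r : AddMonoid.End M => (r : M → M)) DFunLike.coe_injective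
  letI : CommRing C0 := Subring.closureCommRingOfComm (by
    rintro x hx y hy
    rw [Set.mem_singleton_iff.1 hx, Set.mem_singleton_iff.1 hy])
  haveI : Nontrivial M := by
    by_contra h
    rw [not_nontrivial_iff_subsingleton] at h
    exact hg 0 (AddMonoidHom.ext fun v => Subsingleton.elim _ _)
  haveI : Nontrivial C0 := ⟨0, 1, fun h => by
    obtain ⟨v, hv⟩ := exists_ne (0 : M)
    exact hv (DFunLike.congr_fun (congrArg Subtype.val h) v).symm⟩
  haveI : NoZeroDivisors C0 := ⟨fun {x y} hxy => by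
    by_contra hcon
    rw [not_or] at hcon
    obtain ⟨h1, h2⟩ := hcon
    have hix := hker x.1 (hcomm _ x.2).1 (hcomm _ x.2).2 (fun h => h1 (Subtype.ext h))
    have hiy := hker y.1 (hcomm _ y.2).1 (hcomm _ y.2).2 (fun h => h2 (Subtype.ext h))
    obtain ⟨v, hv⟩ := exists_ne (0 : M)
    refine hv (hiy (hix ?_))
    have := DFunLike.congr_fun (congrArg Subtype.val hxy) v
    rw [map_zero y.1, map_zero x.1]
    exact this⟩
  haveI : IsDomain C0 := NoZeroDivisors.to_isDomain C0
  letI : Field C0 := (Finite.isField_of_domain C0).toField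
  haveI : CharP C0 p := by
    refine (CharP.charP_iff_prime_eq_zero Fact.out).2 (Subtype.ext (AddMonoidHom.ext fun v => ?_))
    push_cast
    exact (AddMonoid.End.natCast_apply p v).trans (hM v)
  -- a basis
  have hα0 : α ≠ 0 := fun h => hc0 (by rw [hc, h, zero_mul, mul_zero, add_zero])
  obtain ⟨w, hw⟩ : ∃ w, α w ≠ 0 := by
    by_contra h
    push Not at h
    exact hα0 (AddMonoidHom.ext h)
  set e1 := α w with he1
  set e2 := β e1 with he2
  have hαe1 : α e1 = 0 := hα w
  have hαe2 : α e2 = c e1 := by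
    show α (β e1) = (α * β + β * α) e1
    show α (β e1) = α (β e1) + β (α e1)
    rw [hαe1, map_zero, add_zero]
  have hβe2 : β e2 = 0 := hβ e1
  have he2ne : e2 ≠ 0 := by
    intro h
    have h1 : c e1 = 0 := by rw [← hαe2, h, map_zero]
    exact hw (hker c hcα hcβ hc0 (h1.trans (map_zero c).symm))
  have hαs : ∀ (r : C0) v, α (r • v) = r • α v := fun r v => DFunLike.congr_fun (hcomm _ r.2).1.eq v
  have hβs : ∀ (r : C0) v, β (r • v) = r • β v := fun r v => DFunLike.congr_fun (hcomm _ r.2).2.eq v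
  have hcs : ∀ (r : C0) v, (r : AddMonoid.End M) v = r • v := fun _ _ => rfl
  let χ : (Fin 2 → C0) →+ M :=
    { toFun := fun x => x 0 • e1 + x 1 • e2
      map_zero' := by simp
      map_add' := fun x y => by simp only [Pi.add_apply, add_smul]; abel }
  have hχ : ∀ x, χ x = x 0 • e1 + x 1 • e2 := fun _ => rfl
  set cc : C0 := ⟨c, Subring.subset_closure rfl⟩ with hcc
  have hχa : ∀ x, ρ a (χ x) = χ ((SL2.upper cc).1 *ᵥ x) := by
    intro x
    rw [hρa]
    show χ x + α (χ x) = _
    rw [hχ, hχ, map_add, hαs, hαs, hαe1,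
      hαe2, smul_zero, zero_add, show c e1 = cc • e1 from rfl, smul_smul]
    simp [SL2.upper, Matrix.mulVec, dotProduct, Fin.sum_univ_two, add_smul, mul_comm (x 1)]
    abel
  have hχb : ∀ x, ρ b (χ x) = χ ((SL2.lower (1 : C0)).1 *ᵥ x) := by
    intro x
    rw [hρb]
    show χ x + β (χ x) = _
    rw [hχ, hχ, map_add, hβs, hβs, hβe2,
      smul_zero, add_zero, ← he2]
    simp [SL2.lower, Matrix.mulVec, dotProduct, Fin.sum_univ_two, add_smul]
    abel
  have hχsurj : Function.Surjective χ := by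
    rw [← AddMonoidHom.range_eq_top]
    refine (hinv χ.range ?_ ?_).resolve_left fun h => hw ?_
    · rintro _ ⟨x, rfl⟩
      have h1 : χ x + α (χ x) = χ ((SL2.upper cc).1 *ᵥ x) :=
        (DFunLike.congr_fun hρa.symm _).trans (hχa x)
      exact ⟨(SL2.upper cc).1 *ᵥ x - x, by rw [map_sub, ← h1, add_sub_cancel_left]⟩
    · rintro _ ⟨x, rfl⟩
      have h1 : χ x + β (χ x) = χ ((SL2.lower (1 : C0)).1 *ᵥ x) :=
        (DFunLike.congr_fun hρb.symm _).trans (hχb x)
      exact ⟨(SL2.lower (1 : C0)).1 *ᵥ x - x, by rw [map_sub, ← h1, add_sub_cancel_left]⟩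
    · have : χ ![1, 0] ∈ χ.range := ⟨_, rfl⟩
      rw [h, AddSubgroup.mem_bot, hχ] at this
      simpa using this
  have hsmul_inj : ∀ (r : C0) (v : M), r • v = 0 → r = 0 ∨ v = 0 := by
    intro r v h
    by_cases hr : r = 0
    · exact Or.inl hr
    · exact Or.inr (hker r.1 (hcomm _ r.2).1 (hcomm _ r.2).2 (fun h' => hr (Subtype.ext h'))
        (h.trans (map_zero r.1).symm))
  have hχinj : Function.Injective χ := by
    rw [← AddMonoidHom.ker_eq_bot_iff, AddSubgroup.eq_bot_iff_forall]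
    intro x hx
    rw [AddMonoidHom.mem_ker, hχ] at hx
    have h1 := congrArg (fun v => β v) hx
    simp only [map_add, hβs, hβe2, smul_zero, add_zero, map_zero, ← he2] at h1
    have hx0 : x 0 = 0 := (hsmul_inj _ _ h1).resolve_right he2ne
    rw [hx0, zero_smul, zero_add] at hx
    have hx1 : x 1 = 0 := (hsmul_inj _ _ hx).resolve_right he2ne
    ext i; fin_cases i <;> simp [hx0, hx1]
  -- the matrix representation
  have hex : ∀ x : X, ∃ A : SpecialLinearGroup (Fin 2) C0, ∀ m, ρ x (χ m) = χ (A.1 *ᵥ m) := by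
    refine induction_three hgen ⟨1, fun m => ?_⟩ ?_ ?_ ?_
    · rw [map_one, show (1 : SpecialLinearGroup (Fin 2) C0).1 = 1 from rfl, Matrix.one_mulVec]; rfl
    · rintro j hj x ⟨A, hAx⟩
      refine ⟨A, fun m => ?_⟩
      rw [map_mul, hJ j hj, one_mul]
      exact hAx m
    · rintro x ⟨A, hAx⟩
      refine ⟨SL2.upper cc * A, fun m => ?_⟩
      rw [map_mul, AddMonoid.End.coe_mul, Function.comp_apply, hAx, hχa, Matrix.mulVec_mulVec]
      rfl
    · rintro x ⟨A, hAx⟩
      refine ⟨SL2.lower 1 * A, fun m => ?_⟩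
      rw [map_mul, AddMonoid.End.coe_mul, Function.comp_apply, hAx, hχb, Matrix.mulVec_mulVec]
      rfl
  have huniq : ∀ A B : SpecialLinearGroup (Fin 2) C0,
      (∀ m, χ (A.1 *ᵥ m) = χ (B.1 *ᵥ m)) → A = B := fun A B h =>
    Subtype.ext (Matrix.ext_iff_mulVec.2 fun m => hχinj (h m))
  choose Θ₀ hΘ using hex
  let Θ : X →* SpecialLinearGroup (Fin 2) C0 :=
    MonoidHom.mk' Θ₀ fun x y => huniq _ _ fun m => by
      rw [← hΘ (x * y), map_mul, AddMonoid.End.coe_mul, Function.comp_apply, hΘ y, hΘ x,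
        Matrix.mulVec_mulVec]
      rfl
  have hΘa : Θ a = SL2.upper cc := huniq _ _ fun m => (hΘ a m).symm.trans (hχa m)
  have hΘb : Θ b = SL2.lower 1 := huniq _ _ fun m => (hΘ b m).symm.trans (hχb m)
  set Γ := Subgroup.closure ({SL2.upper cc, SL2.lower 1} : Set (SpecialLinearGroup (Fin 2) C0)) with hΓ
  have hΘΓ : ∀ x, Θ x ∈ Γ := by
    refine induction_three hgen (by rw [map_one]; exact one_mem _) ?_ ?_ ?_
    · intro j hj x hx
      have h1 : Θ j = 1 := huniq _ _ fun m => (hΘ j m).symm.trans (by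
        rw [hJ j hj, show (1 : SpecialLinearGroup (Fin 2) C0).1 = 1 from rfl, Matrix.one_mulVec]; rfl)
      rw [map_mul, h1, one_mul]; exact hx
    · intro x hx
      rw [map_mul, hΘa]; exact mul_mem (Subgroup.subset_closure (Set.mem_insert _ _)) hx
    · intro x hx
      rw [map_mul, hΘb]
      exact mul_mem (Subgroup.subset_closure (Set.mem_insert_of_mem _ rfl)) hx
  have hrange : Γ ≤ Θ.range := by
    rw [hΓ, Subgroup.closure_le]
    rintro _ (rfl | rfl)
    · exact ⟨a, hΘa⟩
    · exact ⟨b, hΘb⟩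
  have hnp : ¬ IsPGroup p Γ := by
    intro h
    obtain ⟨i, hi⟩ := h ⟨Θ g, hΘΓ g⟩
    refine hg i (AddMonoidHom.ext fun v => ?_)
    obtain ⟨m, rfl⟩ := hχsurj v
    have hi' : Θ g ^ p ^ i = 1 := congrArg Subtype.val hi
    rw [← map_pow] at hi'
    refine (hΘ (g ^ p ^ i) m).trans ?_
    rw [show Θ₀ (g ^ p ^ i) = (1 : SpecialLinearGroup (Fin 2) C0) from hi',
      show (1 : SpecialLinearGroup (Fin 2) C0).1 = 1 from rfl, Matrix.one_mulVec]
    rfl
  have hcc : cc ≠ 0 := fun h => hc0 (congrArg Subtype.val h)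
  obtain ⟨η, hηinj, hηle⟩ := Qd.sl2Contains hp C0 (SL2.upper cc) (SL2.lower 1)
    (by rw [SL2.upper_pow, CharP.cast_eq_zero, zero_mul, SL2.upper_zero])
    (by rw [SL2.lower_pow, CharP.cast_eq_zero, zero_mul, SL2.lower_zero]) hnp
  exact ⟨C0, inferInstance, inferInstance, inferInstance, AddEquiv.ofBijective χ ⟨hχinj, hχsurj⟩, Θ, cc,
    fun x m => hΘ x m, hcc, hΘa, hΘb, η, hηinj, hηle.trans hrange⟩

end Cfsg.Agent.Lib.ZJFailure
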