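import Mathlib
import Cfsg.Agent.Lib.ZJFailure.Coords
import Cfsg.Agent.Lib.Functor.Basic

/-!
A vector fixed by one of two quadratic generators and moved by the other: a torus element, acting
by a generator of the prime field's units, moves it as well.
-/

set_option autoImplicit false

namespace Cfsg.Agent.Lib.ZJFailure

open Matrix
open scoped Pointwise

universe u v

section Helpers

variable {F : Type v} [Field F]

/-- Change of basis. -/
noncomputable def conjBy (Q : Matrix (Fin 2) (Fin 2) F) [Invertible Q] :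
    SpecialLinearGroup (Fin 2) F →* SpecialLinearGroup (Fin 2) F where
  toFun M := ⟨⅟Q * M.1 * Q, by
    rw [Matrix.det_mul, Matrix.det_mul, mul_comm (⅟Q).det, mul_assoc, ← Matrix.det_mul,
      invOf_mul_self, Matrix.det_one, mul_one, M.2]⟩
  map_one' := Subtype.ext (by
    show ⅟Q * (1 : SpecialLinearGroup (Fin 2) F).1 * Q = 1
    rw [show (1 : SpecialLinearGroup (Fin 2) F).1 = 1 from rfl, mul_one, invOf_mul_self])
  map_mul' M N := Subtype.ext (by
    show ⅟Q * (M.1 * N.1) * Q = ⅟Q * M.1 * Q * (⅟Q * N.1 * Q)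
    simp only [Matrix.mul_assoc, Matrix.mul_invOf_cancel_left])

theorem conjBy_eq {Q : Matrix (Fin 2) (Fin 2) F} [Invertible Q]
    {M N : SpecialLinearGroup (Fin 2) F} (h : M.1 * Q = Q * N.1) : conjBy Q M = N := Subtype.ext (by
  show ⅟Q * M.1 * Q = N.1
  rw [Matrix.mul_assoc, h, Matrix.invOf_mul_cancel_left])

theorem mul_conjBy (Q : Matrix (Fin 2) (Fin 2) F) [Invertible Q]
    (M : SpecialLinearGroup (Fin 2) F) : M.1 * Q = Q * (conjBy Q M).1 := by
  show _ = Q * (⅟Q * M.1 * Q)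
  rw [Matrix.mul_assoc (⅟Q), Matrix.mul_invOf_cancel_left]

/-- A `p`-subgroup of `SL₂(F)` containing a nontrivial upper unitriangular matrix consists of such. -/
theorem mem_upperSub_of_isPGroup [Finite F] {p : ℕ} [Fact p.Prime] [CharP F p] (hp : p ≠ 2)
    {T : Subgroup (SpecialLinearGroup (Fin 2) F)} (hT : IsPGroup p T) {c : F} (hc : c ≠ 0)
    (hcT : SL2.upper c ∈ T) {x : SpecialLinearGroup (Fin 2) F} (hx : x ∈ T) :
    x ∈ LinGroup.upperSub := by
  haveI : Fintype F := Fintype.ofFinite F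
  obtain ⟨P, hP⟩ := hT.exists_le_sylow
  obtain ⟨k, hk⟩ := LinGroup.exists_conj_upperSub p P
  have hmem : ∀ y ∈ T, ∃ s, y = k * SL2.upper s * k⁻¹ := by
    intro y hy
    have h := hP hy
    rw [hk] at h
    obtain ⟨z, hz, hze⟩ := h
    obtain ⟨s, rfl⟩ := LinGroup.mem_upperSub_iff.1 hz
    exact ⟨s, hze.symm⟩
  obtain ⟨s1, e1⟩ := hmem _ hcT
  obtain ⟨s2, e2⟩ := hmem _ hx
  have hcomm : Commute (SL2.upper c) x := by
    rw [e1, e2]
    have : Commute (SL2.upper s1) (SL2.upper s2) := by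
      show _ * _ = _ * _
      rw [SL2.upper_mul, SL2.upper_mul, add_comm]
    exact this.map (MulAut.conj k).toMonoidHom
  have htr : SL2.tr x = 2 := by rw [e2, SL2.tr_conj]; simp [SL2.tr]; norm_num
  have e00 := congrArg (fun M : SpecialLinearGroup (Fin 2) F => M 0 0) hcomm.eq
  have e01 := congrArg (fun M : SpecialLinearGroup (Fin 2) F => M 0 1) hcomm.eq
  simp only [SL2.mul_00, SL2.mul_01, SL2.upper_00, SL2.upper_01, SL2.upper_10, SL2.upper_11] at e00 e01
  simp only [SL2.tr] at htr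
  have h10 : x 1 0 = 0 := mul_left_cancel₀ hc (by linear_combination e00)
  have hdiag : x 0 0 = x 1 1 := mul_left_cancel₀ hc (by linear_combination -e01)
  have h00 : x 0 0 = 1 := mul_left_cancel₀ (SL2Unipotent.two_ne_zero' (K := F) hp)
    (by linear_combination htr + hdiag)
  refine LinGroup.mem_upperSub_iff.2 ⟨x 0 1, SL2.ext_entries ?_ ?_ ?_ ?_⟩
  · simp [h00]
  · simp
  · simp [h10]
  · simp [← hdiag, h00]

theorem diag_mulVec (u : Fˣ) (z : Fin 2 → F) :
    (SL2.diag u).1 *ᵥ z = ![(u : F) * z 0, ((u⁻¹ : Fˣ) : F) * z 1] := by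
  ext i
  fin_cases i <;> simp [Matrix.mulVec, dotProduct, Fin.sum_univ_two]

theorem upper_mulVec (c : F) (z : Fin 2 → F) :
    (SL2.upper c).1 *ᵥ z = ![z 0 + c * z 1, z 1] := by
  ext i
  fin_cases i <;> simp [Matrix.mulVec, dotProduct, Fin.sum_univ_two]

end Helpers

variable {X : Type u} [Group X] {M : Type v} [AddCommGroup M]

/-- The restriction of a representation to an invariant subgroup. -/
def restrictEnd (ρ : X →* AddMonoid.End M) (W : AddSubgroup M) (hW : ∀ x, ∀ v ∈ W, ρ x v ∈ W) :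
    X →* AddMonoid.End W where
  toFun x := ((ρ x : M →+ M).comp W.subtype).codRestrict W fun v => hW x v v.2
  map_one' := by ext v; exact DFunLike.congr_fun (map_one ρ) (v : M)
  map_mul' x y := by ext v; exact DFunLike.congr_fun (map_mul ρ x y) (v : M)

theorem restrictEnd_coe (ρ : X →* AddMonoid.End M) (W : AddSubgroup M)
    (hW : ∀ x, ∀ v ∈ W, ρ x v ∈ W) (x : X) (v : W) :
    ((restrictEnd ρ W hW x v : W) : M) = ρ x v := rfl

/-- The representation on the quotient by an invariant subgroup. -/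
def quotientEnd (ρ : X →* AddMonoid.End M) (U : AddSubgroup M) (hU : ∀ x, ∀ v ∈ U, ρ x v ∈ U) :
    X →* AddMonoid.End (M ⧸ U) where
  toFun x := QuotientAddGroup.map U U (ρ x) fun v hv => hU x v hv
  map_one' := by
    refine AddMonoidHom.ext fun v => ?_
    obtain ⟨v, rfl⟩ := QuotientAddGroup.mk_surjective v
    exact congrArg (QuotientAddGroup.mk (s := U)) (DFunLike.congr_fun (map_one ρ) v)
  map_mul' x y := by
    refine AddMonoidHom.ext fun v => ?_
    obtain ⟨v, rfl⟩ := QuotientAddGroup.mk_surjective v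
    exact congrArg (QuotientAddGroup.mk (s := U)) (DFunLike.congr_fun (map_mul ρ x y) v)

variable [Finite M] {p : ℕ} [Fact p.Prime]

/-- A group acting as a `p`-group on a nontrivial module of exponent `p` fixes a nonzero vector. -/
theorem exists_fixed (hM : ∀ v : M, p • v = 0) [Nontrivial M] (ρ : X →* AddMonoid.End M)
    {N : Subgroup X} (hN : ∀ n ∈ N, ∃ i, ρ (n ^ p ^ i) = 1) :
    ∃ v : M, v ≠ 0 ∧ ∀ n ∈ N, ρ n v = v := by
  let φ : X →* Equiv.Perm M :=
    MonoidHom.toHomUnits (G := X) (M := Function.End M)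
      { toFun := fun x => (ρ x : M → M)
        map_one' := by rw [map_one]; rfl
        map_mul' := fun x y => by rw [map_mul]; rfl } |>
    fun h => (Equiv.Perm.equivUnitsEnd (α := M)).symm.toMonoidHom.comp h
  have hφ : ∀ x v, φ x v = ρ x v := fun _ _ => rfl
  have hpg : IsPGroup p (N.map φ) := by
    rintro ⟨_, n, hn, rfl⟩
    obtain ⟨i, hi⟩ := hN n hn
    refine ⟨i, Subtype.ext ?_⟩
    show φ n ^ p ^ i = 1
    rw [← map_pow]
    exact Equiv.ext fun v => by rw [hφ, hi]; rfl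
  have hdvd : p ∣ Nat.card M := by
    obtain ⟨v, hv⟩ := exists_ne (0 : M)
    have := addOrderOf_dvd_natCard v
    rwa [addOrderOf_eq_prime (hM v) hv] at this
  have h0 : (0 : M) ∈ MulAction.fixedPoints (N.map φ) M := by
    rintro ⟨_, n, hn, rfl⟩
    exact (hφ n 0).trans (map_zero (ρ n))
  obtain ⟨v, hv, hne⟩ := hpg.exists_fixed_point_of_prime_dvd_card_of_fixed_point M hdvd h0
  exact ⟨v, hne.symm, fun n hn => hv ⟨φ n, n, hn, rfl⟩⟩

variable [Finite X]

set_option maxHeartbeats 800000 in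
/-- The case of an irreducible bottom module. -/
theorem exists_torus_irreducible (hp : p ≠ 2) {J : Subgroup X} [J.Normal] (hJp : IsPGroup p J)
    {a b : X} (hgen : Subgroup.closure ((J : Set X) ∪ {a, b}) = ⊤) (hbp : ∃ i, b ^ p ^ i = 1)
    (P : Sylow p X) (haP : a ∈ (P : Subgroup X))
    (hM : ∀ v : M, p • v = 0) (ρ : X →* AddMonoid.End M) (W : AddSubgroup M)
    (hW : ∀ x, ∀ v ∈ W, ρ x v ∈ W)
    (hirr : ∀ U : AddSubgroup W, (∀ x, ∀ v ∈ U, restrictEnd ρ W hW x v ∈ U) → U = ⊥ ∨ U = ⊤)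
    (ha2 : (ρ a - 1) * (ρ a - 1) = 0) (hb2 : (ρ b - 1) * (ρ b - 1) = 0)
    {y : M} (hJy : ∀ j ∈ J, ρ j y = y) (hay : ρ a y = y)
    (hd : ρ b y - y ∈ W) (hd0 : ρ b y ≠ y)
    (hPy : ∀ r, r * b * r⁻¹ ∈ (P : Subgroup X) → ρ (r * b * r⁻¹) y = y) :
    ∃ t ∈ Subgroup.normalizer ((P : Subgroup X) : Set X), ∃ (μ : (ZMod p)ˣ) (m : ℕ),
      orderOf μ = p - 1 ∧ t ^ m = 1 ∧ ¬ p ∣ m ∧
      (∃ r ∈ W, r ≠ 0 ∧ (∀ x, ρ x (y - r) = y - r) ∧ ρ t r = (μ : ZMod p).val • r) ∧
      ∃ ψ : W →+ (Fin 2 → ZMod p), Function.Surjective ψ ∧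
        (∀ v, ψ (restrictEnd ρ W hW a v) = (SL2.upper (1 : ZMod p)).1 *ᵥ ψ v) ∧
        (∀ v, ψ (restrictEnd ρ W hW t v) = (SL2.diag μ).1 *ᵥ ψ v) := by
  set σ := restrictEnd ρ W hW with hσ
  have hMW : ∀ v : W, p • v = 0 := fun v => Subtype.ext (by simpa using hM v)
  haveI : Nontrivial W := ⟨⟨⟨_, hd⟩, 0, fun h => hd0 (sub_eq_zero.1 (congrArg Subtype.val h))⟩⟩
  -- a normal subgroup acting as a `p`-group acts trivially
  have htriv : ∀ N : Subgroup X, N.Normal → (∀ n ∈ N, ∃ i, σ (n ^ p ^ i) = 1) →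
      ∀ n ∈ N, σ n = 1 := by
    intro N hNn hN
    let U : AddSubgroup W :=
      { carrier := {v | ∀ n ∈ N, σ n v = v}
        zero_mem' := fun n _ => map_zero (σ n)
        add_mem' := fun hv hw n hn => by rw [map_add, hv n hn, hw n hn]
        neg_mem' := fun hv n hn => by rw [map_neg, hv n hn] }
    have hUinv : ∀ x, ∀ v ∈ U, σ x v ∈ U := by
      intro x v hv n hn
      have h := hv (x⁻¹ * n * x) (by simpa using hNn.conj_mem n hn x⁻¹)
      have e : n * x = x * (x⁻¹ * n * x) := by group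
      change (σ n * σ x) v = σ x v
      rw [← map_mul, e, map_mul]
      exact congrArg (σ x) h
    rcases hirr U hUinv with h | h
    · obtain ⟨v, hv, hfix⟩ := exists_fixed hMW σ hN
      exact absurd (AddSubgroup.mem_bot.1 (h ▸ (hfix : v ∈ U))) hv
    · intro n hn
      exact AddMonoidHom.ext fun v => (h ▸ AddSubgroup.mem_top v : v ∈ U) n hn
  have hJ1 : ∀ j ∈ J, σ j = 1 := htriv J inferInstance fun j hj => by
    obtain ⟨i, hi⟩ := hJp ⟨j, hj⟩
    exact ⟨i, by rw [show j ^ p ^ i = 1 from congrArg Subtype.val hi, map_one]⟩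
  have hδ : ∀ x, ρ x y - y ∈ W := by
    have hstep : ∀ g, ρ g y - y ∈ W → ∀ x, ρ x y - y ∈ W → ρ (g * x) y - y ∈ W := by
      intro g hg x hx
      have e : ρ (g * x) y - y = ρ g (ρ x y - y) + (ρ g y - y) := by
        rw [map_mul, map_sub, AddMonoid.End.coe_mul, Function.comp_apply]; abel
      rw [e]; exact add_mem (hW g _ hx) hg
    refine induction_three hgen (by simp) (fun j hj x hx => hstep j ?_ x hx)
      (fun x hx => hstep a ?_ x hx) (fun x hx => hstep b hd x hx)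
    · rw [hJy j hj, sub_self]; exact zero_mem W
    · rw [hay, sub_self]; exact zero_mem W
  by_cases hall : ∀ g : X, ∃ i, σ (g ^ p ^ i) = 1
  · exfalso
    have hid : ∀ g : X, σ g = 1 := fun g =>
      htriv ⊤ inferInstance (fun n _ => hall n) g (Subgroup.mem_top g)
    have hadd : ∀ g x : X, ρ (g * x) y - y = (ρ g y - y) + (ρ x y - y) := by
      intro g x
      have h : ρ g (ρ x y - y) = ρ x y - y :=
        congrArg Subtype.val (DFunLike.congr_fun (hid g) (⟨ρ x y - y, hδ x⟩ : W))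
      have e : ρ (g * x) y - y = ρ g (ρ x y - y) + (ρ g y - y) := by
        rw [map_mul, map_sub, AddMonoid.End.coe_mul, Function.comp_apply]; abel
      rw [e, h, add_comm]
    obtain ⟨i, hi⟩ := hbp
    have hz : IsPGroup p (Subgroup.zpowers b) := by
      rintro ⟨_, k, rfl⟩
      refine ⟨i, Subtype.ext ?_⟩
      show (b ^ k) ^ p ^ i = 1
      rw [← zpow_natCast, ← _root_.zpow_mul, mul_comm, _root_.zpow_mul, zpow_natCast, hi,
        _root_.one_zpow]
    obtain ⟨P', hP'⟩ := hz.exists_le_sylow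
    obtain ⟨r, hr⟩ := MulAction.exists_smul_eq X P' P
    have hrb : r * b * r⁻¹ ∈ (P : Subgroup X) := by
      rw [← hr]; exact ⟨b, hP' (Subgroup.mem_zpowers b), rfl⟩
    have h1 := hadd (r * b) r⁻¹
    have h3 := hadd r r⁻¹
    rw [hPy r hrb, sub_self, hadd r b] at h1
    rw [mul_inv_cancel, map_one] at h3
    simp only [AddMonoid.End.coe_one, id_eq, sub_self] at h3
    refine hd0 (sub_eq_zero.1 ?_)
    linear_combination (norm := abel) h3 - h1
  push Not at hall
  obtain ⟨g, hg⟩ := hall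
  have hres : ∀ x : X, (ρ x - 1) * (ρ x - 1) = 0 → (σ x - 1) * (σ x - 1) = 0 := fun x hx => by
    ext v
    exact DFunLike.congr_fun hx (v : M)
  obtain ⟨K, _, _, _, χ, Θ, cc, hΘ, hcc, hΘa, hΘb, η, hη, hηle⟩ :=
    exists_natural_coords hp hgen hMW σ hJ1 (hres a ha2) (hres b hb2) hg fun U hU => hirr U
      (induction_three hgen (fun v hv => by rw [map_one]; exact hv)
        (fun j hj x hx v hv => by rw [map_mul, hJ1 j hj, one_mul]; exact hx v hv)
        (fun x hx v hv => by rw [map_mul]; exact (hU _ (hx v hv)).1)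
        (fun x hx v hv => by rw [map_mul]; exact (hU _ (hx v hv)).2))
  -- the point fixed by both generators
  set d : W := ⟨ρ b y - y, hd⟩ with hddef
  have hbd : σ b d = d := Subtype.ext (by
    have h := DFunLike.congr_fun hb2 y
    change ρ b (ρ b y - y) - (ρ b y - y) = 0 at h
    exact sub_eq_zero.1 h)
  obtain ⟨w, hw⟩ := χ.surjective d
  have hw0 : w 0 = 0 := by
    have h := hbd
    rw [← hw, hΘ, hΘb] at h
    have h' := congrFun (χ.injective h) 1
    simpa [Matrix.mulVec, dotProduct, Fin.sum_univ_two] using h'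
  set r : W := χ ![w 1, 0] with hr
  have har : σ a r = r := by
    rw [hr, hΘ, hΘa]
    congr 1
    ext i; fin_cases i <;> simp [Matrix.mulVec, dotProduct, Fin.sum_univ_two]
  have hbr : σ b r = r + d := by
    rw [hr, hΘ, hΘb, ← hw, ← map_add]
    congr 1
    ext i; fin_cases i <;> simp [Matrix.mulVec, dotProduct, Fin.sum_univ_two, hw0]
  have hr0 : r ≠ 0 := by
    intro h
    rw [h, map_zero, zero_add] at hbr
    exact hd0 (sub_eq_zero.1 (congrArg Subtype.val hbr.symm))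
  have hfix : ∀ x, ρ x (y - r) = y - r := by
    refine induction_three hgen (by rw [map_one]; rfl) ?_ ?_ ?_
    · intro j hj x hx
      rw [map_mul, AddMonoid.End.coe_mul, Function.comp_apply, hx, map_sub, hJy j hj]
      exact congrArg (y - ·) (congrArg Subtype.val (DFunLike.congr_fun (hJ1 j hj) r))
    · intro x hx
      rw [map_mul, AddMonoid.End.coe_mul, Function.comp_apply, hx, map_sub, hay]
      exact congrArg (y - ·) (congrArg Subtype.val har)
    · intro x hx
      rw [map_mul, AddMonoid.End.coe_mul, Function.comp_apply, hx, map_sub]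
      have h : ρ b r = r + (ρ b y - y) := congrArg Subtype.val hbr
      rw [h]; abel
  -- the basis adapted to `a` and a torus
  have hap : SL2.upper cc ^ p = (1 : SpecialLinearGroup (Fin 2) K) := by
    rw [SL2.upper_pow, CharP.cast_eq_zero, zero_mul, SL2.upper_zero]
  have hcc1 : SL2.upper cc ≠ (1 : SpecialLinearGroup (Fin 2) K) := fun h => hcc (by
    simpa using congrArg (fun A : SpecialLinearGroup (Fin 2) K => A 0 1) h)
  obtain ⟨μ, s, Q, hμ, ⟨x0, hx0⟩, hQ, hQa, hQs⟩ :=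
    exists_torus_basis hp (Γ := Θ.range) η hη hηle ⟨a, hΘa⟩ hap hcc1
  haveI : Invertible Q := Q.invertibleOfIsUnitDet hQ
  set Θ' := (conjBy Q).comp Θ with hΘ'
  have hΘ'a : Θ' a = SL2.upper 1 := conjBy_eq (by rw [hΘa]; exact hQa)
  set μK : Kˣ := Units.map (ZMod.castHom dvd_rfl K).toMonoidHom μ with hμK
  have hΘ'x0 : Θ' x0 = SL2.diag μK := conjBy_eq (by
    rw [hx0, hQs]
    congr 1)
  set χ' : W → (Fin 2 → K) := fun v => ⅟Q *ᵥ χ.symm v with hχ'
  have hχ'σ : ∀ x v, χ' (σ x v) = (Θ' x).1 *ᵥ χ' v := by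
    intro x v
    obtain ⟨z, rfl⟩ := χ.surjective v
    show ⅟Q *ᵥ χ.symm (σ x (χ z)) = (⅟Q * (Θ x).1 * Q) *ᵥ (⅟Q *ᵥ χ.symm (χ z))
    rw [hΘ, AddEquiv.symm_apply_apply, AddEquiv.symm_apply_apply, Matrix.mulVec_mulVec,
      Matrix.mulVec_mulVec, Matrix.mul_invOf_cancel_right]
  have hχ'inj : Function.Injective χ' := fun v w h => χ.symm.injective (by
    have h' : Q *ᵥ (⅟Q *ᵥ χ.symm v) = Q *ᵥ (⅟Q *ᵥ χ.symm w) := congrArg (Q *ᵥ ·) h
    rwa [Matrix.mulVec_mulVec, Matrix.mulVec_mulVec, mul_invOf_self, Matrix.one_mulVec,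
      Matrix.one_mulVec] at h')
  have hχ'surj : Function.Surjective χ' := fun z =>
    ⟨χ (Q *ᵥ z), by
      show ⅟Q *ᵥ χ.symm (χ (Q *ᵥ z)) = z
      rw [AddEquiv.symm_apply_apply, Matrix.mulVec_mulVec, invOf_mul_self, Matrix.one_mulVec]⟩
  -- the elements mapping to upper unitriangular matrices
  set Nu : Subgroup X := (LinGroup.upperSub (F := K)).comap Θ' with hNu
  have haNu : a ∈ Nu := LinGroup.mem_upperSub_iff.2 ⟨1, hΘ'a⟩
  have hPNu : (P : Subgroup X) ≤ Nu := fun x hx =>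
    mem_upperSub_of_isPGroup hp (P.2.map Θ') one_ne_zero (hΘ'a ▸ Subgroup.mem_map_of_mem Θ' haP)
      (Subgroup.mem_map_of_mem Θ' hx)
  have himg : ∀ k ∈ Nu, ∃ x ∈ (P : Subgroup X), Θ' x = Θ' k := by
    intro k hk
    have hpg : IsPGroup p (Nu.map Θ') := by
      haveI : Fintype K := Fintype.ofFinite K
      exact (LinGroup.upperSylow (F := K) p).2.to_le (Subgroup.map_comap_le _ _)
    have hle : (P : Subgroup X).map Θ'.rangeRestrict ≤ Nu.map Θ'.rangeRestrict := Subgroup.map_mono hPNu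
    have hpg' : IsPGroup p (Nu.map Θ'.rangeRestrict) := by
      rintro ⟨_, k, hk, rfl⟩
      obtain ⟨i, hi⟩ := hpg ⟨Θ' k, k, hk, rfl⟩
      refine ⟨i, Subtype.ext (Subtype.ext ?_)⟩
      exact (congrArg Subtype.val hi :)
    have he := (P.mapSurjective Θ'.rangeRestrict_surjective).is_maximal' hpg'
      (by rw [Sylow.coe_mapSurjective]; exact hle)
    have hk' := Subgroup.mem_map_of_mem Θ'.rangeRestrict hk
    rw [he, Sylow.coe_mapSurjective] at hk'
    obtain ⟨x, hx, hxk⟩ := hk'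
    exact ⟨x, hx, congrArg Subtype.val hxk⟩
  have hx0Nu : x0 ∈ Subgroup.normalizer (Nu : Set X) := by
    refine Subgroup.mem_normalizer_iff.2 fun k => ?_
    have key : ∀ (z : X), Θ' z 1 0 = 0 → ∀ k ∈ Nu, z * k * z⁻¹ ∈ Nu := by
      intro z hz k hk
      obtain ⟨c, hc⟩ := LinGroup.mem_upperSub_iff.1 (Subgroup.mem_comap.1 hk)
      refine LinGroup.mem_upperSub_iff.2 ⟨Θ' z 0 0 ^ 2 * c, ?_⟩
      rw [map_mul, map_mul, map_inv, hc, LinGroup.borel_normalizes_upperSub hz]
    refine ⟨key x0 (by rw [hΘ'x0]; rfl) k, fun h => ?_⟩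
    have := key x0⁻¹ (by rw [map_inv, hΘ'x0, SL2.inv_10]; simp) _ h
    simpa [mul_assoc] using this
  obtain ⟨t0, ht0N, ht0⟩ : ∃ t0 ∈ Subgroup.normalizer ((P : Subgroup X) : Set X),
      Θ' t0 = SL2.diag μK := by
    have hP'le : Functor.cj x0 (P : Subgroup X) ≤ Nu := Functor.cj_le_iff.2 fun x hx =>
      (Subgroup.mem_normalizer_iff.1 hx0Nu x).1 (hPNu hx)
    obtain ⟨k, hkNu, hk⟩ := ((Functor.isSylowIn_top_of_sylow P).inter hPNu le_top).exists_cj_le
      hP'le (Functor.isPGroup_cj P.2)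
    rw [Functor.cj_cj] at hk
    have hN : k * x0 ∈ Subgroup.normalizer ((P : Subgroup X) : Set X) :=
      Functor.mem_normalizer_of_cj_le hk
    obtain ⟨x, hx, hxk⟩ := himg k hkNu
    refine ⟨x⁻¹ * (k * x0), mul_mem (inv_mem (Subgroup.le_normalizer hx)) hN, ?_⟩
    rw [map_mul, map_mul, map_inv, hxk, hΘ'x0, inv_mul_cancel_left]
  obtain ⟨e, m, hm, hord⟩ :=
    Nat.exists_eq_pow_mul_and_not_dvd (orderOf_pos t0).ne' p (Fact.out : p.Prime).ne_one
  have hpp : p.Prime := Fact.out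
  have hcop : Nat.Coprime (p ^ e) (p - 1) := Nat.Coprime.pow_left e
    ((Nat.Prime.coprime_iff_not_dvd hpp).2 (Nat.not_dvd_of_pos_of_lt
      (by have := hpp.two_le; omega) (by have := hpp.two_le; omega)))
  obtain ⟨q, hq0, hq1⟩ := Nat.chineseRemainder hcop 0 1
  set t := t0 ^ q with ht
  have htm : t ^ m = 1 := by
    rw [ht, ← pow_mul]
    refine orderOf_dvd_iff_pow_eq_one.1 ?_
    rw [hord]
    exact mul_dvd_mul_right (Nat.modEq_zero_iff_dvd.1 hq0) m
  have hμq : μ ^ q = μ := by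
    conv_rhs => rw [← pow_one μ]
    exact pow_eq_pow_iff_modEq.2 (hμ.symm ▸ hq1)
  have hΘt : Θ' t = SL2.diag μK := by
    rw [ht, map_pow, ht0]
    show (SL2.diagHom μK) ^ q = SL2.diagHom μK
    rw [← map_pow, hμK, ← map_pow, hμq]
  -- the functional
  letI : Algebra (ZMod p) K := ZMod.algebra K p
  obtain ⟨π, hπ⟩ := (Algebra.linearMap (ZMod p) K).exists_leftInverse_of_injective
    (LinearMap.ker_eq_bot.2 (algebraMap (ZMod p) K).injective)
  have hπc : ∀ (c : ZMod p) (z : K), π (ZMod.castHom dvd_rfl K c * z) = c * π z := by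
    intro c z
    rw [show ZMod.castHom dvd_rfl K c = algebraMap (ZMod p) K c from rfl, ← Algebra.smul_def,
      map_smul, smul_eq_mul]
  have hπsurj : ∀ c : ZMod p, ∃ z, π z = c := fun c =>
    ⟨algebraMap (ZMod p) K c, DFunLike.congr_fun hπ c⟩
  let ψ : W →+ (Fin 2 → ZMod p) :=
    { toFun := fun v i => π (χ' v i)
      map_zero' := funext fun i => by
        show π ((⅟Q *ᵥ χ.symm 0) i) = 0
        rw [map_zero, Matrix.mulVec_zero, Pi.zero_apply, map_zero]
      map_add' := fun v w => funext fun i => by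
        show π ((⅟Q *ᵥ χ.symm (v + w)) i) = π ((⅟Q *ᵥ χ.symm v) i) + π ((⅟Q *ᵥ χ.symm w) i)
        rw [map_add, Matrix.mulVec_add, Pi.add_apply, map_add] }
  refine ⟨t, pow_mem ht0N q, μ, m, hμ, htm, hm, ⟨r, r.2, fun h => hr0 (Subtype.ext h), hfix, ?_⟩,
    ψ, ?_, ?_, ?_⟩
  · -- `r` is an eigenvector
    have h1 : χ' r 1 = 0 := by
      have h := hχ'σ a r
      rw [har, hΘ'a] at h
      have h0 := congrFun h 0
      simpa [Matrix.mulVec, dotProduct, Fin.sum_univ_two] using h0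
    have h2 : σ t r = (μ : ZMod p).val • r := hχ'inj (by
      rw [hχ'σ, hΘt, diag_mulVec]
      show _ = ⅟Q *ᵥ χ.symm ((μ : ZMod p).val • r)
      rw [map_nsmul, Matrix.mulVec_smul]
      show _ = (μ : ZMod p).val • χ' r
      have hcast : ((μ : ZMod p).val : K) = (μK : K) := by
        show _ = ZMod.castHom dvd_rfl K (μ : ZMod p)
        conv_rhs => rw [← ZMod.natCast_zmod_val (μ : ZMod p), map_natCast]
      ext i
      fin_cases i
      · show (μK : K) * χ' r 0 = (μ : ZMod p).val • χ' r 0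
        rw [nsmul_eq_mul, hcast]
      · show ((μK⁻¹ : Kˣ) : K) * χ' r 1 = (μ : ZMod p).val • χ' r 1
        rw [h1, mul_zero, smul_zero])
    exact congrArg Subtype.val h2
  · intro z
    choose f hf using hπsurj
    obtain ⟨v, hv⟩ := hχ'surj fun i => f (z i)
    exact ⟨v, funext fun i => by show π (χ' v i) = z i; rw [hv, hf]⟩
  · intro v
    funext i
    show π (χ' (σ a v) i) = _
    rw [hχ'σ, hΘ'a]
    fin_cases i <;> simp [Matrix.mulVec, dotProduct, Fin.sum_univ_two, ψ]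
  · intro v
    funext i
    show π (χ' (σ t v) i) = _
    rw [hχ'σ, hΘt, diag_mulVec, diag_mulVec]
    fin_cases i
    · exact hπc _ _
    · show π (((μK⁻¹ : Kˣ) : K) * χ' v 1) = _
      rw [hμK, ← map_inv]
      exact hπc _ _

/-- Scalars from `ZMod p` on a group of exponent `p`. -/
theorem nsmul_congr (hM : ∀ v : M, p • v = 0) {k l : ℕ} (h : (k : ZMod p) = l) (v : M) :
    k • v = l • v := by
  refine nsmul_eq_nsmul_iff_modEq.2 (Nat.ModEq.of_dvd ?_ ((ZMod.natCast_eq_natCast_iff k l p).1 h))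
  exact addOrderOf_dvd_of_nsmul_eq_zero (hM v)

set_option maxHeartbeats 800000 in
/-- The torus element moving `y`. -/
theorem exists_torus (hp : p ≠ 2) {J : Subgroup X} [J.Normal] (hJp : IsPGroup p J)
    {a b : X} (hgen : Subgroup.closure ((J : Set X) ∪ {a, b}) = ⊤) (hbp : ∃ i, b ^ p ^ i = 1)
    (P : Sylow p X) (haP : a ∈ (P : Subgroup X))
    (hM : ∀ v : M, p • v = 0) (ρ : X →* AddMonoid.End M)
    (ha2 : (ρ a - 1) * (ρ a - 1) = 0) (hb2 : (ρ b - 1) * (ρ b - 1) = 0)
    {y : M} (hJy : ∀ j ∈ J, ρ j y = y) (hay : ρ a y = y) (hby : ρ b y ≠ y)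
    (hPy : ∀ r, r * b * r⁻¹ ∈ (P : Subgroup X) → ρ (r * b * r⁻¹) y = y) :
    ∃ t ∈ Subgroup.normalizer ((P : Subgroup X) : Set X), ∃ μ : (ZMod p)ˣ,
      orderOf μ = p - 1 ∧
      (∃ c : M, c ≠ 0 ∧ ρ t c = (μ : ZMod p).val • c ∧
        ∀ U : AddSubgroup M, y ∈ U → (∀ v ∈ U, ρ t v ∈ U) → c ∈ U) ∧
      ∃ (U : AddSubgroup M) (ψ : U →+ (Fin 2 → ZMod p)), Function.Surjective ψ ∧
        (∀ v : U, ∃ h : ρ a v ∈ U, ψ ⟨ρ a v, h⟩ = (SL2.upper (1 : ZMod p)).1 *ᵥ ψ v) ∧
        (∀ v : U, ∃ h : ρ t v ∈ U, ψ ⟨ρ t v, h⟩ = (SL2.diag μ).1 *ᵥ ψ v) := by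
  set d := ρ b y - y with hd
  have hd0 : d ≠ 0 := fun h => hby (sub_eq_zero.1 h)
  set W2 : AddSubgroup M := AddSubgroup.closure (Set.range fun x => ρ x d) with hW2
  have hdW : d ∈ W2 := AddSubgroup.subset_closure ⟨1, show ρ 1 d = d by rw [map_one]; rfl⟩
  have hW2inv : ∀ x, ∀ v ∈ W2, ρ x v ∈ W2 := by
    intro x v hv
    induction hv using AddSubgroup.closure_induction with
    | mem z hz =>
      obtain ⟨g, rfl⟩ := hz
      refine AddSubgroup.subset_closure ⟨x * g, ?_⟩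
      show ρ (x * g) d = ρ x (ρ g d)
      rw [map_mul]; rfl
    | zero => rw [map_zero]; exact zero_mem _
    | add z w _ _ hz hw => rw [map_add]; exact add_mem hz hw
    | neg z _ hz => rw [map_neg]; exact neg_mem hz
  haveI : Finite (AddSubgroup M) := Finite.of_injective (fun H => (H : Set M)) SetLike.coe_injective
  obtain ⟨V3, ⟨hV3le, hV3inv, hdV3⟩, hV3max⟩ := Set.exists_max_image
    {U : AddSubgroup M | U ≤ W2 ∧ (∀ x, ∀ v ∈ U, ρ x v ∈ U) ∧ d ∉ U}
    (fun U => Nat.card U) (Set.toFinite _)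
    ⟨⊥, bot_le, fun x v hv => by rw [AddSubgroup.mem_bot.1 hv, map_zero]; exact zero_mem _,
      fun h => hd0 (AddSubgroup.mem_bot.1 h)⟩
  set ρq := quotientEnd ρ V3 hV3inv with hρq
  set mk := QuotientAddGroup.mk' V3 with hmk
  have hmkρ : ∀ x v, ρq x (mk v) = mk (ρ x v) := fun _ _ => rfl
  set Wq := W2.map mk with hWq
  have hMq : ∀ v : M ⧸ V3, p • v = 0 := by
    intro v
    obtain ⟨v, rfl⟩ := QuotientAddGroup.mk_surjective v
    rw [← QuotientAddGroup.mk_nsmul, hM, QuotientAddGroup.mk_zero]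
  have hWqinv : ∀ x, ∀ v ∈ Wq, ρq x v ∈ Wq := by
    rintro x _ ⟨v, hv, rfl⟩
    exact ⟨ρ x v, hW2inv x v hv, (hmkρ x v).symm⟩
  have hirr : ∀ U : AddSubgroup Wq,
      (∀ x, ∀ v ∈ U, restrictEnd ρq Wq hWqinv x v ∈ U) → U = ⊥ ∨ U = ⊤ := by
    intro U hU
    set U' : AddSubgroup M := W2 ⊓ (U.map Wq.subtype).comap mk with hU'
    have hV3U' : V3 ≤ U' := fun v hv => ⟨hV3le hv, by
      show mk v ∈ U.map Wq.subtype
      rw [show mk v = 0 from (QuotientAddGroup.eq_zero_iff v).2 hv]; exact zero_mem _⟩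
    have hU'inv : ∀ x, ∀ v ∈ U', ρ x v ∈ U' := by
      rintro x v ⟨hv, w, hw, hwv⟩
      refine ⟨hW2inv x v hv, restrictEnd ρq Wq hWqinv x w, hU x w hw, ?_⟩
      show ρq x (w : M ⧸ V3) = mk (ρ x v)
      rw [← hmkρ]
      exact congrArg (ρq x) hwv
    by_cases hdU : d ∈ U'
    · right
      have hle : W2 ≤ U' := (AddSubgroup.closure_le _).2 (by
        rintro _ ⟨x, rfl⟩; exact hU'inv x d hdU)
      refine eq_top_iff.2 fun w _ => ?_
      obtain ⟨v, hv, hvw⟩ := w.2
      obtain ⟨w', hw', hw'v⟩ := (hle hv).2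
      rwa [show w = w' from Subtype.ext (hvw.symm.trans hw'v.symm)]
    · left
      have hEq : V3 = U' := AddSubgroup.eq_of_le_of_card_ge hV3U'
        (hV3max U' ⟨inf_le_left, hU'inv, hdU⟩)
      refine (AddSubgroup.eq_bot_iff_forall _).2 fun w hw => ?_
      obtain ⟨v, hv, hvw⟩ := w.2
      have hv' : v ∈ U' := ⟨hv, w, hw, hvw.symm⟩
      rw [← hEq] at hv'
      exact Subtype.ext (hvw.symm.trans ((QuotientAddGroup.eq_zero_iff v).2 hv'))
  have hquad : ∀ x : X, (ρ x - 1) * (ρ x - 1) = 0 → (ρq x - 1) * (ρq x - 1) = 0 := by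
    intro x hx
    refine AddMonoidHom.ext fun v => ?_
    obtain ⟨v, rfl⟩ := QuotientAddGroup.mk_surjective v
    exact congrArg mk (DFunLike.congr_fun hx v)
  obtain ⟨t, htN, μ, m, hμ, htm, hm, ⟨r, hrW, hr0, hrfix, hrt⟩, ψ, hψ, hψa, hψt⟩ :=
    exists_torus_irreducible hp hJp hgen hbp P haP hMq ρq Wq hWqinv hirr (hquad a ha2) (hquad b hb2)
      (y := mk y) (fun j hj => by rw [hmkρ, hJy j hj]) (by rw [hmkρ, hay])
      (⟨d, hdW, by rw [hd, map_sub, hmkρ]⟩)
      (fun h => hdV3 ((QuotientAddGroup.eq_zero_iff d).1 (by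
        show mk d = 0
        rw [hd, map_sub, ← hmkρ, h, sub_self])))
      (fun r hr => by rw [hmkρ, hPy r hr])
  refine ⟨t, htN, μ, hμ, ?_, W2,
    ψ.comp ((mk.comp W2.subtype).codRestrict Wq fun v => ⟨v, v.2, rfl⟩), ?_, ?_, ?_⟩
  · -- the eigenvector
    set ν := ((μ⁻¹ : (ZMod p)ˣ) : ZMod p).val with hν
    set μn := (μ : ZMod p).val with hμn
    have hp1 : 1 < p - 1 := by have := (Fact.out : p.Prime).two_le; omega
    have hm0 : m ≠ 0 := by rintro rfl; exact hm (dvd_zero p)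
    have hμm : μ ^ m = 1 := by
      have h := congrArg (fun x => ρq x r) htm
      have hk : ∀ k, ρq (t ^ k) r = μn ^ k • r := by
        intro k
        induction k with
        | zero => simp
        | succ k ih =>
          rw [pow_succ', map_mul, AddMonoid.End.coe_mul, Function.comp_apply, ih, map_nsmul, hrt,
            ← mul_smul, ← pow_succ]
      simp only [map_one, AddMonoid.End.coe_one, id_eq, hk] at h
      have h1 : (μn ^ m) • r = 1 • r := by rw [one_smul]; exact h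
      rw [nsmul_eq_nsmul_iff_modEq, addOrderOf_eq_prime (hMq r) hr0,
        ← ZMod.natCast_eq_natCast_iff, Nat.cast_pow, hμn, ZMod.natCast_zmod_val, Nat.cast_one] at h1
      exact Units.ext (by simpa using h1)
    have hμ1 : (μ : ZMod p) ≠ 1 := by
      intro h
      rw [show μ = 1 from Units.ext h, orderOf_one] at hμ
      omega
    set c := ∑ i ∈ Finset.range m, ν ^ i • ρ (t ^ i) y with hc
    refine ⟨c, ?_, ?_, ?_⟩
    · intro hc0
      have hk : ∀ k, ρq (t ^ k) (mk y) = (mk y - r) + μn ^ k • r := by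
        intro k
        induction k with
        | zero => simp
        | succ k ih =>
          rw [pow_succ', map_mul, AddMonoid.End.coe_mul, Function.comp_apply, ih, map_add, hrfix,
            map_nsmul, hrt, ← mul_smul, ← pow_succ]
      have h := congrArg mk hc0
      rw [hc, map_sum, map_zero] at h
      simp only [map_nsmul, ← hmkρ, hk, smul_add, ← mul_smul, ← mul_pow,
        Finset.sum_add_distrib, ← Finset.sum_smul] at h
      have e1 : ((∑ i ∈ Finset.range m, ν ^ i : ℕ) : ZMod p) = ((0 : ℕ) : ZMod p) := by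
        push_cast
        rw [hν, ZMod.natCast_zmod_val]
        have hg := geom_sum_mul ((μ⁻¹ : (ZMod p)ˣ) : ZMod p) m
        rw [← Units.val_pow_eq_pow_val, inv_pow, hμm, inv_one, Units.val_one, sub_self] at hg
        refine (mul_eq_zero.1 hg).resolve_right fun h' => hμ1 ?_
        have h'' : μ⁻¹ = 1 := Units.ext (sub_eq_zero.1 h')
        rw [inv_eq_one.1 h'', Units.val_one]
      have e2 : ((∑ i ∈ Finset.range m, (ν * μn) ^ i : ℕ) : ZMod p) = ((m : ℕ) : ZMod p) := by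
        push_cast
        rw [hν, hμn, ZMod.natCast_zmod_val, ZMod.natCast_zmod_val, Units.inv_mul]
        simp
      rw [nsmul_congr hMq e1, nsmul_congr hMq e2, zero_smul, zero_add] at h
      refine hm ?_
      rw [← addOrderOf_eq_prime (hMq r) hr0]
      exact addOrderOf_dvd_of_nsmul_eq_zero h
    · set f : ℕ → M := fun i => ν ^ i • ρ (t ^ i) y with hf
      have hcf : c = ∑ i ∈ Finset.range m, f i := rfl
      have hνμ : ((μn * ν : ℕ) : ZMod p) = ((1 : ℕ) : ZMod p) := by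
        push_cast
        rw [hν, hμn, ZMod.natCast_zmod_val, ZMod.natCast_zmod_val, Units.mul_inv]
      have hf1 : ∀ i, ρ t (f i) = μn • f (i + 1) := by
        intro i
        simp only [hf, map_nsmul, ← mul_smul]
        refine (congrArg (ν ^ i • ·) (show ρ t (ρ (t ^ i) y) = ρ (t ^ (i + 1)) y by
          rw [pow_succ', map_mul]; rfl)).trans (nsmul_congr hM ?_ _)
        have h1 : ν ^ (i + 1) = ν ^ i * ν := pow_succ ν i
        rw [h1, Nat.cast_mul, Nat.cast_mul, ← mul_assoc, mul_comm (μn : ZMod p), mul_assoc,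
          ← Nat.cast_mul μn ν, hνμ, Nat.cast_one, mul_one]
      have hfm : f m = f 0 := by
        simp only [hf, htm, pow_zero]
        refine nsmul_congr hM ?_ _
        rw [Nat.cast_pow, Nat.cast_one, hν, ZMod.natCast_zmod_val, ← Units.val_pow_eq_pow_val,
          inv_pow, hμm, inv_one, Units.val_one]
      have hshift : ∑ i ∈ Finset.range m, f (i + 1) = c := by
        have h1 := Finset.sum_range_succ' f m
        have h2 := Finset.sum_range_succ f m
        rw [hfm] at h2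
        rw [hcf]
        exact add_right_cancel (h1.symm.trans h2)
      calc ρ t c = ∑ i ∈ Finset.range m, ρ t (f i) := by rw [hcf, map_sum]
        _ = ∑ i ∈ Finset.range m, μn • f (i + 1) := Finset.sum_congr rfl fun i _ => hf1 i
        _ = μn • c := by rw [← Finset.smul_sum, hshift]
    · intro U hyU hUt
      have hk : ∀ k, ρ (t ^ k) y ∈ U := by
        intro k
        induction k with
        | zero => simpa using hyU
        | succ k ih => rw [pow_succ', map_mul]; exact hUt _ ih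
      exact sum_mem fun i _ => nsmul_mem (hk i) _
  · refine hψ.comp ?_
    rintro ⟨_, v, hv, rfl⟩
    exact ⟨⟨v, hv⟩, rfl⟩
  · intro v
    exact ⟨hW2inv a v v.2, hψa ⟨mk v, v, v.2, rfl⟩⟩
  · intro v
    exact ⟨hW2inv t v v.2, hψt ⟨mk v, v, v.2, rfl⟩⟩

end Cfsg.Agent.Lib.ZJFailure
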