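import Mathlib
import Cfsg.Agent.Lib.ZJFailure.Pair
import Cfsg.Agent.Lib.ZJFailure.Torus

/-!
The torus configuration on an elementary abelian central-by-abelian normal section.
-/

set_option autoImplicit false

namespace Cfsg.Agent.Lib.ZJFailure

open Subgroup Functor QuadraticPair
open scoped commutatorElement IsMulCommutative

universe u

variable {N : Type u} [Group N] [Finite N] {p : ℕ} [Fact p.Prime]

set_option maxHeartbeats 1000000 in
/-- A quadratic element moving the point fixed by a Sylow subgroup gives a torus element acting on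
a `p`-subgroup above `O_p`, with an eigenvector and a natural section. -/
theorem exists_config (hp : p ≠ 2) (T : Sylow p N) (Z Y : Subgroup N) [Z.Normal] [Y.Normal]
    (hZY : Z ≤ Y) (hYp : IsPGroup p Y) (hYc : ∀ u ∈ Y, ∀ v ∈ Y, ⁅u, v⁆ ∈ Z)
    (hYe : ∀ u ∈ Y, u ^ p ∈ Z) {y : N} (hy : y ∈ Y) (hyT : ∀ s ∈ (T : Subgroup N), ⁅y, s⁆ ∈ Z)
    {E : Set N} (hE : ∀ e ∈ E, ∀ g, g * e * g⁻¹ ∈ E) (hEp : ∀ e ∈ E, ∃ i, e ^ p ^ i = 1)
    (hEq : ∀ e ∈ E, ∀ u ∈ Y, ⁅⁅u, e⁆, e⁆ ∈ Z) (hEy : ∃ e ∈ E, ⁅y, e⁆ ∉ Z) :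
    ∃ (X : Subgroup N) (a t : N) (μ : (ZMod p)ˣ), X ≤ (T : Subgroup N) ∧ Cfsg.pCore p N ≤ X ∧
      Y ≤ X ∧ a ∈ X ∧ a ∈ E ∧ t ∈ normalizer (X : Set N) ∧ orderOf μ = p - 1 ∧
      (∃ c ∈ Y, c ∉ Z ∧ (t * c * t⁻¹) * (c ^ (μ : ZMod p).val)⁻¹ ∈ Z ∧
        ∀ U : Subgroup N, Z ≤ U → y ∈ U → (∀ u ∈ U, u ∈ Y → t * u * t⁻¹ ∈ U) → c ∈ U) ∧
      ∃ (P : Subgroup N) (ψ : P →* Multiplicative (Fin 2 → ZMod p)), P ≤ Y ∧ Function.Surjective ψ ∧
        (∀ x : P, ∃ h, (ψ ⟨a * x * a⁻¹, h⟩).toAdd =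
          Matrix.mulVec (SL2.upper (1 : ZMod p)).1 (ψ x).toAdd) ∧
        (∀ x : P, ∃ h, (ψ ⟨t * x * t⁻¹, h⟩).toAdd = Matrix.mulVec (SL2.diag μ).1 (ψ x).toAdd) := by
  set q := QuotientGroup.mk' Z with hq
  have hqZ : ∀ u v : N, q u = q v ↔ u⁻¹ * v ∈ Z := fun u v => QuotientGroup.eq
  have hq1 : ∀ u : N, q u = 1 ↔ u ∈ Z := fun u => QuotientGroup.eq_one_iff u
  -- the stabiliser of the coset of `y`
  set M0 : Subgroup N := (centralizer ({q y} : Set (N ⧸ Z))).comap q with hM0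
  have hM0iff : ∀ g, g ∈ M0 ↔ ⁅y, g⁆ ∈ Z := by
    intro g
    rw [hM0, mem_comap, mem_centralizer_singleton_iff, ← hq1, map_commutatorElement,
      commutatorElement_eq_one_iff_commute]
    exact ⟨Eq.symm, Eq.symm⟩
  have hTM : (T : Subgroup N) ≤ M0 := fun s hs => (hM0iff s).2 (hyT s hs)
  obtain ⟨J, a, b, hJp, hJM, haE, haM, hbE, hbM, haN, hbN, R, hR, X, hXa, hXE⟩ :=
    exists_pair T hTM hE hEp (by
      obtain ⟨e, he, hey⟩ := hEy
      exact ⟨e, he, fun h => hey ((hM0iff e).1 h)⟩)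
  have haR : a ∈ R := hR ▸ subset_closure (Or.inr (Or.inl rfl))
  have hbR : b ∈ R := hR ▸ subset_closure (Or.inr (Or.inr rfl))
  have hJR : J ≤ R := hR ▸ fun x hx => subset_closure (Or.inl hx)
  have hRN : R ≤ normalizer (J : Set N) := by
    rw [hR, closure_le]
    rintro x (hx | rfl | rfl)
    · exact le_normalizer hx
    · exact haN
    · exact hbN
  haveI : (J.subgroupOf R).Normal := ⟨fun j hj g => by
    rw [mem_subgroupOf] at hj ⊢
    exact (mem_normalizer_iff.1 (hRN g.2) _).1 hj⟩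
  -- the module
  set V := Y.map q with hV
  haveI : IsMulCommutative V := ⟨⟨fun u v => by
    obtain ⟨u', hu', eu⟩ := u.2
    obtain ⟨v', hv', ev⟩ := v.2
    apply Subtype.ext
    show (u : N ⧸ Z) * v = v * u
    rw [← eu, ← ev]
    have h := (hq1 _).2 (hYc u' hu' v' hv')
    rwa [map_commutatorElement, commutatorElement_eq_one_iff_commute] at h⟩⟩
  have hVN : (⊤ : Subgroup (N ⧸ Z)) ≤ normalizer (V : Set (N ⧸ Z)) := by
    rw [normalizer_eq_top_iff.2 (Normal.map inferInstance q (QuotientGroup.mk'_surjective Z))]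
  let qT : R →* (⊤ : Subgroup (N ⧸ Z)) :=
    (Subgroup.topEquiv.symm.toMonoidHom.comp q).comp R.subtype
  let ρ : R →* AddMonoid.End (Additive V) := (actAdd V ⊤ hVN).comp qT
  have hρ : ∀ (g : R) (v : Additive V),
      ((Additive.toMul (ρ g v) : V) : N ⧸ Z) = q g * (Additive.toMul v : V) * (q g)⁻¹ :=
    fun g v => actAdd_apply V ⊤ hVN _ v
  let ι : Y →* V := q.subgroupMap Y
  have hι : ∀ u : Y, ((ι u : V) : N ⧸ Z) = q u := fun _ => rfl
  let y' : Additive V := Additive.ofMul (ι ⟨y, hy⟩)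
  have hM : ∀ v : Additive V, p • v = 0 := by
    intro v
    apply Additive.toMul.injective
    apply Subtype.ext
    rw [toMul_nsmul, SubgroupClass.coe_pow, toMul_zero, OneMemClass.coe_one]
    obtain ⟨u, hu, hue⟩ := (Additive.toMul v).2
    rw [← hue, ← map_pow, hq1]
    exact hYe u hu
  have hquad : ∀ (g : R), (g : N) ∈ E → (ρ g - 1) * (ρ g - 1) = 0 := by
    intro g hg
    refine AddMonoidHom.ext fun v => ?_
    change ρ g (ρ g v - v) - (ρ g v - v) = 0
    rw [sub_eq_zero]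
    apply Additive.toMul.injective
    apply Subtype.ext
    rw [hρ, toMul_sub, Subgroup.coe_div, hρ]
    obtain ⟨u, hu, hue⟩ := (Additive.toMul v).2
    rw [← hue]
    have h := (hq1 _).2 (hEq g hg u hu)
    rw [map_commutatorElement, commutatorElement_eq_one_iff_commute, map_commutatorElement] at h
    have h2 : q g * q u * (q g)⁻¹ / q u = ⁅q u, q g⁆⁻¹ := by
      simp [commutatorElement_def, div_eq_mul_inv, mul_assoc]
    rw [h2, h.symm.inv_right.eq, mul_inv_cancel_right]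
  have hfix : ∀ g : R, ρ g y' = y' ↔ (g : N) ∈ M0 := by
    intro g
    rw [hM0iff, ← hq1, map_commutatorElement, commutatorElement_eq_one_iff_commute]
    constructor
    · intro h
      have h' := congrArg (fun v : Additive V => ((Additive.toMul v : V) : N ⧸ Z)) h
      simp only [hρ] at h'
      change q g * q y * (q g)⁻¹ = q y at h'
      exact (mul_inv_eq_iff_eq_mul.1 h').symm
    · intro h
      apply Additive.toMul.injective
      apply Subtype.ext
      rw [hρ]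
      show q g * q y * (q g)⁻¹ = q y
      rw [mul_inv_eq_iff_eq_mul]
      exact h.eq.symm
  have hbp : ∃ i, (⟨b, hbR⟩ : R) ^ p ^ i = 1 := by
    obtain ⟨i, hi⟩ := hEp b hbE
    exact ⟨i, Subtype.ext hi⟩
  have hgen : closure (((J.subgroupOf R : Subgroup R) : Set R) ∪ {⟨a, haR⟩, ⟨b, hbR⟩}) = ⊤ := by
    apply map_injective R.subtype_injective
    rw [MonoidHom.map_closure, ← MonoidHom.range_eq_map, range_subtype, Set.image_union,
      Set.image_pair]
    conv_rhs => rw [hR]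
    congr 2
    ext x
    exact ⟨fun ⟨z, hz, hzx⟩ => hzx ▸ hz, fun hx => ⟨⟨x, hJR hx⟩, hx, rfl⟩⟩
  obtain ⟨t, htX, μ, hμ, ⟨c, hc0, hct, hcU⟩, U, ψ, hψ, hψa, hψt⟩ :=
    exists_torus (M := Additive V) hp (J := J.subgroupOf R)
      (hJp.comap_of_injective R.subtype R.subtype_injective) hgen hbp X (hXa haR) hM ρ
      (hquad _ haE) (hquad _ hbE) (y := y')
      (fun j hj => (hfix j).2 (hJM (mem_subgroupOf.1 hj))) ((hfix _).2 haM)
      (fun h => hbM ((hfix _).1 h))
      (fun r hr => (hfix _).2 (hXE _ hr (hE b hbE r)))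
  -- the `p`-subgroup
  set E' : Set N := {e | e ∈ E ∧ ∃ h : e ∈ R, (⟨e, h⟩ : R) ∈ (X : Subgroup R)} with hE'
  set X2 := Cfsg.pCore p N ⊔ closure E' with hX2
  have hOT : Cfsg.pCore p N ≤ (T : Subgroup N) := PSolvable.pCore_le_sylow T
  have hX2M : X2 ≤ M0 := sup_le (hOT.trans hTM) ((closure_le _).2 (by
    rintro e ⟨he, h, hX⟩
    exact hXE ⟨e, h⟩ hX he))
  obtain ⟨T4, hT4⟩ := (X.2.map R.subtype).exists_le_sylow
  have hX2p : IsPGroup p X2 := T4.2.to_le (sup_le (PSolvable.pCore_le_sylow T4) ((closure_le _).2 (by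
    rintro e ⟨he, h, hX⟩
    exact hT4 ⟨_, hX, rfl⟩)))
  obtain ⟨m, hmM, hm⟩ := ((isSylowIn_top_of_sylow T).inter hTM le_top).exists_cj_le hX2M hX2p
  have htN : (t : N) ∈ normalizer (X2 : Set N) := by
    have key : ∀ s : R, s ∈ normalizer ((X : Subgroup R) : Set R) → cj (s : N) X2 ≤ X2 := by
      intro s hs
      rw [hX2, cj, Subgroup.map_sup]
      refine sup_le (le_sup_of_le_left ?_) (le_sup_of_le_right ?_)
      · rintro _ ⟨x, hx, rfl⟩
        exact (inferInstance : (Cfsg.pCore p N).Normal).conj_mem x hx s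
      · rw [MonoidHom.map_closure, closure_le]
        rintro _ ⟨e, ⟨he, h, hX⟩, rfl⟩
        refine subset_closure ⟨hE e he s, mul_mem (mul_mem s.2 h) (inv_mem s.2), ?_⟩
        exact (mem_normalizer_iff.1 hs ⟨e, h⟩).1 hX
    exact mem_normalizer_of_cj_le (key t htX)
  have hYX2 : Y ≤ X2 := (PSolvable.le_pCore hYp).trans le_sup_left
  have haX2 : a ∈ X2 := mem_sup_right (subset_closure ⟨haE, haR, hXa haR⟩)
  set t' := m * (t : N) * m⁻¹ with ht'
  set a' := m * a * m⁻¹ with ha'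
  -- transport the subgroup carrying `ψ`
  have hqm : q m * q y * (q m)⁻¹ = q y := by
    have h := (hM0iff m).1 hmM
    rw [← hq1, map_commutatorElement, commutatorElement_eq_one_iff_commute] at h
    rw [← h.eq, mul_inv_cancel_right]
  refine ⟨cj m X2, a', t', μ, hm, ?_, ?_, conj_mem_cj haX2, hE a haE m, ?_, hμ, ?_, ?_⟩
  · intro x hx
    rw [mem_cj]
    exact mem_sup_left (by simpa using (inferInstance : (Cfsg.pCore p N).Normal).conj_mem x hx m⁻¹)
  · intro x hx
    rw [mem_cj]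
    exact hYX2 (by simpa using (inferInstance : Y.Normal).conj_mem x hx m⁻¹)
  · rw [← cj_normalizer]
    exact conj_mem_cj htN
  · obtain ⟨c', hc'Y, hc'⟩ := (Additive.toMul c).2
    refine ⟨m * c' * m⁻¹, (inferInstance : Y.Normal).conj_mem _ hc'Y m, fun h => hc0 ?_, ?_, ?_⟩
    · apply Additive.toMul.injective
      apply Subtype.ext
      rw [toMul_zero, OneMemClass.coe_one, ← hc', hq1]
      simpa [mul_assoc] using (inferInstance : Z.Normal).conj_mem _ h m⁻¹
    · have h := congrArg (fun v : Additive V => ((Additive.toMul v : V) : N ⧸ Z)) hct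
      simp only [hρ, toMul_nsmul, SubgroupClass.coe_pow, ← hc'] at h
      rw [← hq1, map_mul, map_inv, map_pow, ht']
      simp only [map_mul, map_inv, conj_pow]
      rw [← h]
      group
    · intro W hZW hyW hW
      let Uw : AddSubgroup (Additive V) :=
        Subgroup.toAddSubgroup (((cj m⁻¹ (W ⊓ Y)).map q).subgroupOf V)
      have hyUw : y' ∈ Uw := by
        change q y ∈ (cj m⁻¹ (W ⊓ Y)).map q
        refine ⟨m⁻¹ * y * m, mem_cj.2 (by simpa [mul_assoc] using And.intro hyW hy), ?_⟩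
        rw [map_mul, map_mul, map_inv]
        calc (q m)⁻¹ * q y * q m = (q m)⁻¹ * (q m * q y * (q m)⁻¹) * q m := by rw [hqm]
          _ = q y := by group
      have hUw : ∀ v ∈ Uw, ρ t v ∈ Uw := by
        intro v hv
        change ((Additive.toMul (ρ t v) : V) : N ⧸ Z) ∈ (cj m⁻¹ (W ⊓ Y)).map q
        obtain ⟨u, hu, hue⟩ := (hv : ((Additive.toMul v : V) : N ⧸ Z) ∈ (cj m⁻¹ (W ⊓ Y)).map q)
        refine ⟨t * u * (t : N)⁻¹, ?_, by rw [hρ, show q t * ((Additive.toMul v : V) : N ⧸ Z) * (q t)⁻¹ = q t * q u * (q t)⁻¹ by rw [hue]; rfl, map_mul, map_mul, map_inv]⟩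
        replace hu := mem_cj.1 hu
        rw [SetLike.mem_coe, mem_cj]
        rw [inv_inv] at hu ⊢
        have e : m * (t * u * (t : N)⁻¹) * m⁻¹ = t' * (m * u * m⁻¹) * t'⁻¹ := by rw [ht']; group
        rw [e]
        exact ⟨hW _ hu.1 hu.2, (inferInstance : Y.Normal).conj_mem _ hu.2 _⟩
      obtain ⟨u, hu, hue⟩ := (hcU Uw hyUw hUw : ((Additive.toMul c : V) : N ⧸ Z) ∈ (cj m⁻¹ (W ⊓ Y)).map q)
      replace hu := mem_cj.1 hu
      rw [inv_inv] at hu
      have hz : m * (u⁻¹ * c') * m⁻¹ ∈ Z :=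
        (inferInstance : Z.Normal).conj_mem _ ((hqZ u c').1 (hue.trans hc'.symm)) m
      have e : m * c' * m⁻¹ = (m * u * m⁻¹) * (m * (u⁻¹ * c') * m⁻¹) := by group
      rw [e]
      exact mul_mem hu.1 (hZW hz)
  · set P0 : Subgroup Y := (AddSubgroup.toSubgroup' U).comap ι with hP0
    set P : Subgroup N := cj m (P0.map Y.subtype) with hP
    have hPY : P ≤ Y := cj_le_iff.2 fun x hx => by
      obtain ⟨z, -, rfl⟩ := hx
      exact (inferInstance : Y.Normal).conj_mem _ z.2 m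
    have hback : ∀ x : P, ∃ u : Y, ι u ∈ AddSubgroup.toSubgroup' U ∧ (u : N) = m⁻¹ * x * m := fun x => by
      obtain ⟨z, hz, hze⟩ := mem_cj.1 x.2
      exact ⟨z, hz, hze⟩
    have hinY : ∀ x : P, m⁻¹ * (x : N) * m ∈ Y := fun x => by
      obtain ⟨u, -, hu⟩ := hback x; exact hu ▸ u.2
    have hinU : ∀ x : P, Additive.ofMul (ι ⟨_, hinY x⟩) ∈ U := fun x => by
      obtain ⟨u, hu, hue⟩ := hback x
      rwa [show (⟨_, hinY x⟩ : Y) = u from Subtype.ext hue.symm]
    let φ : P → U := fun x => ⟨_, hinU x⟩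
    have hφadd : ∀ x z, φ (x * z) = φ x + φ z := fun x z => by
      apply Subtype.ext
      apply Additive.toMul.injective
      show ι _ = ι _ * ι _
      rw [← map_mul]
      congr 1
      exact Subtype.ext (by simp [mul_assoc])
    refine ⟨P, MonoidHom.mk' (fun x => Multiplicative.ofAdd (ψ (φ x))) (fun x z => by
      rw [hφadd, map_add, ofAdd_add]), hPY, ?_, ?_, ?_⟩
    · intro z
      obtain ⟨v, hv⟩ := hψ z.toAdd
      obtain ⟨u, hu, hue⟩ := (Additive.toMul (v : Additive V)).2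
      have hιu : ι ⟨u, hu⟩ = Additive.toMul (v : Additive V) := Subtype.ext hue
      have hmem : m * u * m⁻¹ ∈ P := conj_mem_cj ⟨⟨u, hu⟩, by
        show ι ⟨u, hu⟩ ∈ AddSubgroup.toSubgroup' U
        rw [hιu]
        exact v.2, rfl⟩
      refine ⟨⟨_, hmem⟩, ?_⟩
      show Multiplicative.ofAdd (ψ (φ ⟨_, hmem⟩)) = z
      have : φ ⟨_, hmem⟩ = v := Subtype.ext (by
        apply Additive.toMul.injective
        show ι _ = _
        rw [← hιu]
        congr 1
        exact Subtype.ext (by simp [mul_assoc]))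
      rw [this, hv, ofAdd_toAdd]
    all_goals intro x
    · have haY : a * (m⁻¹ * x * m) * a⁻¹ ∈ Y := (inferInstance : Y.Normal).conj_mem _ (hinY x) a
      have hρx : Additive.ofMul (ι ⟨_, haY⟩) = ρ ⟨a, haR⟩ (φ x : Additive V) := by
        apply Additive.toMul.injective; apply Subtype.ext
        rw [hρ]
        show q _ = q _ * q _ * (q _)⁻¹
        simp [map_mul]
      obtain ⟨hin, he⟩ := hψa (φ x)
      have hmem : a' * x * a'⁻¹ ∈ P := by
        rw [show a' * x * a'⁻¹ = m * (a * (m⁻¹ * x * m) * a⁻¹) * m⁻¹ by rw [ha']; group]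
        refine conj_mem_cj ⟨⟨_, haY⟩, ?_, rfl⟩
        show Additive.ofMul (ι ⟨_, haY⟩) ∈ U
        rw [hρx]; exact hin
      refine ⟨hmem, ?_⟩
      show ψ (φ ⟨_, hmem⟩) = _
      have : φ ⟨_, hmem⟩ = ⟨_, hin⟩ := Subtype.ext (by
        refine Eq.trans ?_ hρx
        show Additive.ofMul (ι _) = _
        congr 2
        exact Subtype.ext (show m⁻¹ * (a' * (x : N) * a'⁻¹) * m = _ by rw [ha']; group))
      rw [this, he]
      rfl
    · have htY : (t : N) * (m⁻¹ * x * m) * (t : N)⁻¹ ∈ Y :=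
        (inferInstance : Y.Normal).conj_mem _ (hinY x) t
      have hρx : Additive.ofMul (ι ⟨_, htY⟩) = ρ t (φ x : Additive V) := by
        apply Additive.toMul.injective; apply Subtype.ext
        rw [hρ]
        show q _ = q _ * q _ * (q _)⁻¹
        simp [map_mul]
      obtain ⟨hin, he⟩ := hψt (φ x)
      have hmem : t' * x * t'⁻¹ ∈ P := by
        rw [show t' * x * t'⁻¹ = m * (t * (m⁻¹ * x * m) * (t : N)⁻¹) * m⁻¹ by rw [ht']; group]
        refine conj_mem_cj ⟨⟨_, htY⟩, ?_, rfl⟩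
        show Additive.ofMul (ι ⟨_, htY⟩) ∈ U
        rw [hρx]; exact hin
      refine ⟨hmem, ?_⟩
      show ψ (φ ⟨_, hmem⟩) = _
      have : φ ⟨_, hmem⟩ = ⟨_, hin⟩ := Subtype.ext (by
        refine Eq.trans ?_ hρx
        show Additive.ofMul (ι _) = _
        congr 2
        exact Subtype.ext (show m⁻¹ * (t' * (x : N) * t'⁻¹) * m = _ by rw [ht']; group))
      rw [this, he]
      rfl

end Cfsg.Agent.Lib.ZJFailure
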