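import Mathlib
import Cfsg.Agent.Lib.ZJFailure.Basic
import Cfsg.Agent.Lib.PSolvable.Core
import Cfsg.Agent.Lib.Core.Nilpotent

/-!
Small tools: stabilisers of cosets modulo a central subgroup, Frattini factorisations.
-/

set_option autoImplicit false

namespace Cfsg.Agent.Lib.ZJFailure

open Subgroup Functor
open scoped commutatorElement

variable {G : Type*} [Group G] {p : ℕ}

theorem normal_of_le_center {Z : Subgroup G} (h : Z ≤ Subgroup.center G) : Z.Normal :=
  ⟨fun z hz g => by rw [Subgroup.mem_center_iff.1 (h hz) g, mul_inv_cancel_right]; exact hz⟩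

/-- The elements centralising the image of `Y` in `G ⧸ Z`. -/
def actKer (Z : Subgroup G) [Z.Normal] (Y : Set G) : Subgroup G :=
  (centralizer (QuotientGroup.mk' Z '' Y)).comap (QuotientGroup.mk' Z)

theorem mem_actKer {Z : Subgroup G} [Z.Normal] {Y : Set G} {g : G} :
    g ∈ actKer Z Y ↔ ∀ u ∈ Y, ⁅u, g⁆ ∈ Z := by
  rw [actKer, mem_comap, mem_centralizer_iff]
  constructor
  · intro h u hu
    rw [← QuotientGroup.eq_one_iff, ← QuotientGroup.mk'_apply, map_commutatorElement,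
      commutatorElement_eq_one_iff_commute]
    exact h _ ⟨u, hu, rfl⟩
  · rintro h _ ⟨u, hu, rfl⟩
    have := h u hu
    rwa [← QuotientGroup.eq_one_iff, ← QuotientGroup.mk'_apply, map_commutatorElement,
      commutatorElement_eq_one_iff_commute] at this

theorem commutator_mem_swap {Z : Subgroup G} {u g : G} (h : ⁅u, g⁆ ∈ Z) : ⁅g, u⁆ ∈ Z := by
  rw [← commutatorElement_inv]; exact inv_mem h

theorem mem_actKer' {Z : Subgroup G} [Z.Normal] {Y : Set G} {g : G} :
    g ∈ actKer Z Y ↔ ∀ u ∈ Y, ⁅g, u⁆ ∈ Z :=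
  mem_actKer.trans ⟨fun h u hu => commutator_mem_swap (h u hu),
    fun h u hu => commutator_mem_swap (h u hu)⟩

theorem conj_commutator_mem {Z : Subgroup G} [hZ : Z.Normal] {u g : G} (k : G) (h : ⁅u, g⁆ ∈ Z) :
    ⁅k * u * k⁻¹, k * g * k⁻¹⁆ ∈ Z := by
  have : ⁅k * u * k⁻¹, k * g * k⁻¹⁆ = k * ⁅u, g⁆ * k⁻¹ := by
    simp only [commutatorElement_def]; group
  rw [this]; exact hZ.conj_mem _ h k

/-- `Z` together with the `K`-conjugates of `y`. -/
def conjClosure (Z : Subgroup G) (K : Subgroup G) (y : G) : Subgroup G :=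
  Z ⊔ closure {x | ∃ k ∈ K, x = k * y * k⁻¹}

theorem conjClosure_le {Z K U : Subgroup G} {y : G} (hZ : Z ≤ U) (hy : y ∈ U)
    (hK : K ≤ normalizer (U : Set G)) : conjClosure Z K y ≤ U :=
  sup_le hZ ((closure_le _).2 (by
    rintro _ ⟨k, hk, rfl⟩; exact (mem_normalizer_iff.1 (hK hk) y).1 hy))

theorem self_mem_conjClosure {Z K : Subgroup G} {y : G} : y ∈ conjClosure Z K y :=
  mem_sup_right (subset_closure ⟨1, one_mem K, by simp⟩)

theorem conjClosure_mono {Z K K' : Subgroup G} {y : G} (h : K ≤ K') :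
    conjClosure Z K y ≤ conjClosure Z K' y :=
  sup_le_sup_left (Subgroup.closure_mono (by rintro _ ⟨k, hk, e⟩; exact ⟨k, h hk, e⟩)) Z

theorem le_normalizer_conjClosure [Finite G] {Z K : Subgroup G} [hZ : Z.Normal] {y : G} :
    K ≤ normalizer (conjClosure Z K y : Set G) := by
  intro g hg
  refine mem_normalizer_of_cj_le ?_
  rw [conjClosure, cj, Subgroup.map_sup, MonoidHom.map_closure]
  refine sup_le_sup ?_ (Subgroup.closure_mono ?_)
  · rintro _ ⟨z, hz, rfl⟩; exact hZ.conj_mem z hz g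
  rintro _ ⟨_, ⟨k, hk, rfl⟩, rfl⟩
  exact ⟨g * k, mul_mem hg hk, by simp [MulAut.conj_apply, mul_assoc]⟩

/-- A subgroup normalised by `K` that fixes `y` modulo `Z` fixes the whole of `conjClosure Z K y`. -/
theorem commutator_conjClosure {Z K N : Subgroup G} [hZ : Z.Normal] {y : G}
    (hKN : K ≤ normalizer (N : Set G)) (hN : ∀ n ∈ N, ⁅y, n⁆ ∈ Z) {u n : G}
    (hu : u ∈ conjClosure Z K y) (hn : n ∈ N) : ⁅u, n⁆ ∈ Z := by
  have hle : conjClosure Z K y ≤ actKer Z (N : Set G) := by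
    refine sup_le (fun z hz => mem_actKer'.2 fun x _ => ?_) ((closure_le _).2 ?_)
    · have : ⁅z, x⁆ = z * (x * z⁻¹ * x⁻¹) := by simp only [commutatorElement_def]; group
      rw [this]; exact mul_mem hz (hZ.conj_mem _ (inv_mem hz) x)
    · rintro _ ⟨k, hk, rfl⟩
      refine mem_actKer'.2 fun x hx => ?_
      have h := hN _ ((mem_normalizer_iff.1 (hKN (inv_mem hk)) x).1 hx)
      simpa [mul_assoc] using conj_commutator_mem k h
  exact mem_actKer'.1 (hle hu) n hn

variable [Finite G] [Fact p.Prime]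

/-- A `p`-group normalising a section meets its fixed points in an element of order `p`. -/
theorem exists_fixed_mod {S Z D : Subgroup G} [Z.Normal] (hS : IsPGroup p S) (hD : D ≤ S)
    (hSD : S ≤ normalizer (D : Set G)) (hne : ¬ D ≤ Z) :
    ∃ y ∈ D, y ∉ Z ∧ y ^ p ∈ Z ∧ ∀ s ∈ S, ⁅y, s⁆ ∈ Z := by
  set q := (QuotientGroup.mk' Z).subgroupMap S with hq
  have hqs : Function.Surjective q := (QuotientGroup.mk' Z).subgroupMap_surjective S
  haveI : Group.IsNilpotent (S.map (QuotientGroup.mk' Z)) := (hS.map _).isNilpotent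
  haveI : (D.subgroupOf S).Normal := ⟨fun d hd g => by
    rw [mem_subgroupOf] at hd ⊢
    exact (mem_normalizer_iff.1 (hSD g.2) _).1 hd⟩
  haveI : ((D.subgroupOf S).map q).Normal := Normal.map inferInstance q hqs
  have hne' : (D.subgroupOf S).map q ≠ ⊥ := by
    intro h
    refine hne fun d hd => ?_
    have : q ⟨d, hD hd⟩ ∈ (⊥ : Subgroup _) := h ▸ mem_map_of_mem q (mem_subgroupOf.2 hd)
    exact (QuotientGroup.eq_one_iff d).1 (congrArg Subtype.val (mem_bot.1 this))
  set I := (D.subgroupOf S).map q ⊓ Subgroup.center _ with hI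
  have hIne : I ≠ ⊥ := Nilp.inf_center_ne_bot_of_normal hne'
  haveI : Nontrivial I := (nontrivial_iff_ne_bot I).2 hIne
  obtain ⟨k, hk0, hk⟩ := (((hS.map (QuotientGroup.mk' Z)).to_subgroup I)).nontrivial_iff_card.1
    inferInstance
  obtain ⟨w, hw⟩ := exists_prime_orderOf_dvd_card' (G := I) p (hk ▸ dvd_pow_self p hk0.ne')
  obtain ⟨⟨y, hyS⟩, hyD, hyw⟩ := w.2.1
  have hwne : w ≠ 1 := fun h => (Fact.out : p.Prime).ne_one (by rw [← hw, h, orderOf_one])
  refine ⟨y, hyD, fun h => hwne ?_, ?_, fun s hs => ?_⟩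
  · apply Subtype.ext
    rw [← hyw]
    exact Subtype.ext ((QuotientGroup.eq_one_iff y).2 h)
  · rw [← QuotientGroup.eq_one_iff]
    have h := pow_orderOf_eq_one w
    rw [hw] at h
    have h' := congrArg (fun z : I => ((z : S.map (QuotientGroup.mk' Z)) : G ⧸ Z)) h
    rw [SubgroupClass.coe_pow, SubgroupClass.coe_pow, ← hyw] at h'
    exact h'
  · rw [← QuotientGroup.eq_one_iff, ← QuotientGroup.mk'_apply, map_commutatorElement,
      commutatorElement_eq_one_iff_commute]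
    have h := Subgroup.mem_center_iff.1 w.2.2 (q ⟨s, hs⟩)
    rw [← hyw] at h
    exact (congrArg Subtype.val h).symm

/-- Frattini factorisation. -/
theorem exists_frattini {M N T : Subgroup G} (hT : IsSylowIn p M T) (hN : N ≤ M)
    (hMN : M ≤ normalizer (N : Set G)) {x : G} (hx : x ∈ M) :
    ∃ e ∈ N, ∃ u ∈ M, u ∈ normalizer ((T ⊓ N : Subgroup G) : Set G) ∧ x = e * u := by
  have hTN := hT.inf_normal hN hMN
  have h1 : cj x (T ⊓ N) ≤ N := cj_le_iff.2 fun b hb => (mem_normalizer_iff.1 (hMN hx) b).1 hb.2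
  obtain ⟨e, he, hee⟩ := hTN.exists_cj_le h1 (isPGroup_cj (hT.isPGroup.to_le inf_le_left))
  rw [cj_cj] at hee
  exact ⟨e⁻¹, inv_mem he, e * x, mul_mem (hN he) hx, mem_normalizer_of_cj_le hee, by group⟩

/-- A group stabilising the chain `C ≥ C1 ≥ 1` is a `p`-group modulo the centraliser of `C`. -/
theorem exists_mul_of_stabilising {N T C C1 : Subgroup G} (hT : IsSylowIn p N T)
    (hC : IsPGroup p C) (hNC : N ≤ normalizer (C : Set G)) (hC1 : C1 ≤ C)
    (hfix : ∀ n ∈ N, ∀ c ∈ C1, n * c * n⁻¹ = c) (hmove : ∀ n ∈ N, ∀ c ∈ C, ⁅n, c⁆ ∈ C1)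
    {x : G} (hx : x ∈ N) :
    ∃ c ∈ N, c ∈ centralizer (C : Set G) ∧ ∃ s ∈ T, x = c * s := by
  obtain ⟨P, hP⟩ := hT.exists_sylow
  set K := (centralizer (C : Set G)).subgroupOf N with hK
  haveI : K.Normal := ⟨fun k hk g => by
    rw [hK, mem_subgroupOf, mem_centralizer_iff] at hk ⊢
    intro c hc
    have hc' := (mem_normalizer_iff.1 (inv_mem (hNC g.2)) c).1 hc
    have h := hk _ hc'
    push_cast
    calc c * ((g : G) * k * (g : G)⁻¹) = g * ((g : G)⁻¹ * c * (g : G)⁻¹⁻¹ * k) * (g : G)⁻¹ := by group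
      _ = g * (k * ((g : G)⁻¹ * c * (g : G)⁻¹⁻¹)) * (g : G)⁻¹ := by rw [h]
      _ = (g : G) * k * (g : G)⁻¹ * c := by group⟩
  have hquot : IsPGroup p (N ⧸ K) := by
    intro z
    obtain ⟨n, rfl⟩ := QuotientGroup.mk_surjective z
    obtain ⟨i, hi⟩ := hC.exists_card_eq
    refine ⟨i, ?_⟩
    rw [← QuotientGroup.mk_pow, QuotientGroup.eq_one_iff, hK, mem_subgroupOf, mem_centralizer_iff]
    intro c hc
    set d := ⁅(n : G), c⁆ with hd
    have hdC1 : d ∈ C1 := hmove n n.2 c hc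
    have hpow : ∀ k : ℕ, (n : G) ^ k * c = d ^ k * c * (n : G) ^ k := by
      intro k
      induction k with
      | zero => simp
      | succ k ih =>
        have hnd : (n : G) * d ^ k = d ^ k * n :=
          mul_inv_eq_iff_eq_mul.1 (hfix n n.2 _ (pow_mem hdC1 k))
        have hnc : (n : G) * c = d * c * n := by
          rw [hd]; simp only [commutatorElement_def]; group
        calc (n : G) ^ (k + 1) * c = (n : G) * ((n : G) ^ k * c) := by rw [pow_succ', mul_assoc]
          _ = (n : G) * d ^ k * c * (n : G) ^ k := by rw [ih]; group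
          _ = d ^ k * ((n : G) * c) * (n : G) ^ k := by rw [hnd]; group
          _ = d ^ (k + 1) * c * (n : G) ^ (k + 1) := by rw [hnc, pow_succ, pow_succ']; group
    have hd1 : d ^ p ^ i = 1 := by
      have h := pow_card_eq_one' (x := (⟨d, hC1 hdC1⟩ : C))
      rw [hi] at h
      exact congrArg Subtype.val h
    have h := hpow (p ^ i)
    rw [hd1, one_mul] at h
    push_cast
    exact h.symm
  have htop : (P : Subgroup N).map (QuotientGroup.mk' K) = ⊤ := by
    have h := (P.mapSurjective (QuotientGroup.mk'_surjective K)).3 (Q := ⊤) (hquot.to_subgroup _)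
      le_top
    rw [Sylow.coe_mapSurjective] at h
    exact h.symm
  obtain ⟨s, hs, hse⟩ : QuotientGroup.mk' K ⟨x, hx⟩ ∈ (P : Subgroup N).map (QuotientGroup.mk' K) :=
    htop ▸ mem_top _
  have hk : (⟨x, hx⟩ : N) * s⁻¹ ∈ K := by
    rw [← QuotientGroup.eq_one_iff, ← QuotientGroup.mk'_apply, map_mul, map_inv, hse, mul_inv_cancel]
  rw [hP] at hs
  replace hs : (s : G) ∈ T := hs
  exact ⟨x * (s : G)⁻¹, mul_mem hx (inv_mem s.2), mem_subgroupOf.1 hk, s, hs, by group⟩

/-- The largest normal `p`-subgroup of the subgroup `K`. -/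
def opK (p : ℕ) (K : Subgroup G) : Subgroup G := (Cfsg.pCore p K).map K.subtype

omit [Finite G] [Fact p.Prime] in
theorem opK_le (K : Subgroup G) : opK p K ≤ K := map_subtype_le _

omit [Finite G] [Fact p.Prime] in
theorem opK_isPGroup (K : Subgroup G) : IsPGroup p (opK p K) := PSolvable.pCore_isPGroup.map _

omit [Finite G] [Fact p.Prime] in
theorem le_normalizer_opK (K : Subgroup G) : K ≤ normalizer (opK p K : Set G) := by
  intro k hk
  refine mem_normalizer_iff.2 fun x => ⟨?_, ?_⟩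
  · rintro ⟨z, hz, rfl⟩
    exact ⟨⟨k, hk⟩ * z * ⟨k, hk⟩⁻¹, (inferInstance : (Cfsg.pCore p K).Normal).conj_mem z hz _, rfl⟩
  · rintro ⟨z, hz, e⟩
    refine ⟨⟨k, hk⟩⁻¹ * z * ⟨k, hk⟩,
      by simpa using (inferInstance : (Cfsg.pCore p K).Normal).conj_mem z hz (⟨k, hk⟩ : K)⁻¹, ?_⟩
    change k⁻¹ * (z : G) * k = x
    rw [show (z : G) = k * x * k⁻¹ from e]
    group

omit [Finite G] [Fact p.Prime] in
theorem le_opK {K N : Subgroup G} (hN : N ≤ K) (hp : IsPGroup p N)
    (hKN : K ≤ normalizer (N : Set G)) : N ≤ opK p K := by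
  haveI : (N.subgroupOf K).Normal := ⟨fun n hn g => by
    rw [mem_subgroupOf] at hn ⊢
    exact (mem_normalizer_iff.1 (hKN g.2) _).1 hn⟩
  intro x hx
  exact ⟨⟨x, hN hx⟩, PSolvable.le_pCore (N := N.subgroupOf K) (hp.comap_of_injective K.subtype K.subtype_injective)
    (mem_subgroupOf.2 hx), rfl⟩

theorem opK_le_sylow {K Q : Subgroup G} (hQ : IsSylowIn p K Q) : opK p K ≤ Q := by
  obtain ⟨P, hP⟩ := hQ.exists_sylow
  rintro _ ⟨z, hz, rfl⟩
  have := PSolvable.pCore_le_sylow P hz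
  rwa [hP, mem_subgroupOf] at this

end Cfsg.Agent.Lib.ZJFailure
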