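import Mathlib
import Cfsg.Agent.Lib.ZJFailure.Tools

/-!
Quadratic elements outside `O_p`.
-/

set_option autoImplicit false

namespace Cfsg.Agent.Lib.ZJFailure

open Subgroup Functor ZJ
open scoped commutatorElement

variable {G : Type*} [Group G] {p : ℕ}

/-- `b` acts quadratically on `Y` modulo `Z`. -/
def QuadOn (Z Y : Subgroup G) (b : G) : Prop := ∀ u ∈ Y, ⁅⁅u, b⁆, b⁆ ∈ Z

theorem QuadOn.conj {Z Y : Subgroup G} [hZ : Z.Normal] {b k : G} (h : QuadOn Z Y b)
    (hk : k ∈ normalizer (Y : Set G)) : QuadOn Z Y (k * b * k⁻¹) := by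
  intro u hu
  have h1 := h _ ((mem_normalizer_iff.1 (inv_mem hk) u).1 hu)
  have h2 := hZ.conj_mem _ h1 k
  have e : k * ⁅⁅k⁻¹ * u * k⁻¹⁻¹, b⁆, b⁆ * k⁻¹ = ⁅⁅u, k * b * k⁻¹⁆, k * b * k⁻¹⁆ := by
    simp only [commutatorElement_def]; group
  rwa [e] at h2

variable [Finite G] [Fact p.Prime]

/-- Below the top: either a quadratic element outside `O_p(K)`, or a larger configuration. -/
theorem exists_quad_or_larger {Z Y K Q : Subgroup G} [hZ : Z.Normal] {s : G}
    (hQ : IsSylowIn p K Q) (hsQ : cj s Q = Q) (hKY : K ≤ normalizer (Y : Set G))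
    (hYP : Y ≤ opK p K) (hYc : ∀ u ∈ Y, ∀ v ∈ Y, ⁅u, v⁆ ∈ Z) :
    (∃ a ∈ Q, QuadOn Z Y a ∧ a ∉ opK p K) ∨
      ∃ F : Subgroup G, Y ≤ F ∧ F ≤ opK p K ∧ K ≤ normalizer (F : Set G) ∧
        s ∈ normalizer (F : Set G) := by
  by_cases hq : ∃ a ∈ Q, QuadOn Z Y a ∧ a ∉ opK p K
  · exact Or.inl hq
  push Not at hq
  right
  set P := opK p K with hP
  have hPQ : P ≤ Q := opK_le_sylow hQ
  have hsQ' : cj s⁻¹ Q = Q := by conv_lhs => rw [← hsQ]; rw [cj_inv_cj]
  have hPK : P ≤ K := opK_le K
  set E0 : Set G := (K : Set G) ∪ {s, s⁻¹} with hE0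
  have hEinv : ∀ e ∈ E0, e⁻¹ ∈ E0 := by
    rintro e (he | rfl | rfl)
    · exact Or.inl (inv_mem he)
    · exact Or.inr (Or.inr rfl)
    · exact Or.inr (Or.inl (inv_inv s))
  have hstep : ∀ e ∈ E0, cj e P ≤ K := by
    rintro e (he | rfl | rfl)
    · rw [cj_eq_self_of_mem (le_normalizer_opK K he)]; exact hPK
    · exact (cj_mono e hPQ).trans (hsQ.le.trans hQ.le)
    · exact (cj_mono s⁻¹ hPQ).trans (hsQ'.le.trans hQ.le)
  have main : ∀ n, ∀ l : List G, l.length = n → (∀ e ∈ l, e ∈ E0) → cj l.prod Y ≤ P := by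
    intro n
    induction n with
    | zero =>
      intro l hl _
      rw [List.length_eq_zero_iff.1 hl, List.prod_nil, cj_one]
      exact hYP
    | succ n ih =>
      intro l hl hmem
      obtain ⟨e, l2, rfl⟩ : ∃ e l2, l = e :: l2 := by
        rcases l with _ | ⟨e, l2⟩
        · simp at hl
        · exact ⟨e, l2, rfl⟩
      set g := (e :: l2).prod with hg
      have hA : cj g Y ≤ K := by
        rw [hg, List.prod_cons, ← cj_cj]
        exact (cj_mono e (ih l2 (by simpa using hl) fun x hx => hmem x (List.mem_cons_of_mem _ hx))).trans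
          (hstep e (hmem e List.mem_cons_self))
      have hB : Y ≤ cj g K := by
        obtain ⟨l1, e', hl1⟩ : ∃ l1 e', e :: l2 = l1 ++ [e'] :=
          ⟨_, _, (List.dropLast_concat_getLast (List.cons_ne_nil e l2)).symm⟩
        have hlen : l1.length = n := by
          have := congrArg List.length hl1
          simp at this hl
          omega
        have hmem1 : ∀ x ∈ (l1.map (·⁻¹)).reverse, x ∈ E0 := by
          intro x hx
          rw [List.mem_reverse, List.mem_map] at hx
          obtain ⟨z, hz, rfl⟩ := hx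
          exact hEinv z (hmem z (by rw [hl1]; exact List.mem_append_left _ hz))
        have h := ih _ (by simp [hlen]) hmem1
        rw [← List.prod_inv_reverse] at h
        have h' : Y ≤ cj l1.prod P := by
          have := cj_mono l1.prod h
          rwa [cj_cj_inv] at this
        refine h'.trans ?_
        rw [hg, hl1, List.prod_append, List.prod_singleton, ← cj_cj]
        refine cj_mono _ ?_
        have he' : e' ∈ E0 := hmem e' (by rw [hl1]; simp)
        have := cj_mono e' (hstep e'⁻¹ (hEinv e' he'))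
        rwa [cj_cj_inv] at this
      have hYN : ∀ u ∈ Y, u ∈ normalizer ((cj g Y : Subgroup G) : Set G) := by
        intro u hu
        rw [← cj_normalizer]
        exact cj_mono g hKY (hB hu)
      intro a ha
      have haq : QuadOn Z Y a := by
        intro u hu
        have hua : ⁅u, a⁆ ∈ cj g Y := by
          rw [commutatorElement_def]
          exact mul_mem ((mem_normalizer_iff.1 (hYN u hu) a).1 ha) (inv_mem ha)
        obtain ⟨v, hv, hve⟩ := hua
        obtain ⟨w, hw, rfl⟩ := ha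
        rw [← hve]
        exact conj_commutator_mem g (hYc v hv w hw)
      have hap : IsPGroup p (zpowers a) :=
        (isPGroup_cj ((opK_isPGroup K).to_le hYP)).to_le (zpowers_le.2 ha)
      obtain ⟨k, hk, hka⟩ := hQ.exists_cj_le (zpowers_le.2 (hA ha)) hap
      have := hq (k * a * k⁻¹) (hka (conj_mem_cj (mem_zpowers a))) (haq.conj (hKY hk))
      have h2 := (mem_normalizer_iff.1 (le_normalizer_opK (p := p) K (inv_mem hk)) _).1 this
      simpa [mul_assoc, hP] using h2
  refine ⟨⨆ g : closure E0, cj (g : G) Y, (le_iSup_of_le ⟨1, one_mem _⟩ (by simp)), ?_, ?_, ?_⟩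
  · refine iSup_le fun g => ?_
    have hg : (g : G) ∈ Submonoid.closure E0 := by
      rw [← closure_toSubmonoid_of_finite]; exact g.2
    obtain ⟨l, hl, hlg⟩ := Submonoid.exists_list_of_mem_closure hg
    rw [← hlg]
    exact main _ l rfl hl
  all_goals
    have key : closure E0 ≤ normalizer (((⨆ g : closure E0, cj (g : G) Y) : Subgroup G) : Set G) := by
      intro h hh
      refine mem_normalizer_of_cj_le ?_
      rw [cj, Subgroup.map_iSup]
      refine iSup_le fun g => ?_
      refine le_iSup_of_le (⟨h, hh⟩ * g) ?_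
      rw [show ((⟨h, hh⟩ * g : closure E0) : G) = h * g from rfl, ← cj_cj]
  · exact fun k hk => key (subset_closure (Or.inl hk))
  · exact key (subset_closure (Or.inr (Or.inl rfl)))

/-- At the top: either all maximal abelian subgroups lie in `P`, or one gives a quadratic element
outside `P`. -/
theorem exists_quad_top (hp : p ≠ 2) (S : Sylow p G) {Z P : Subgroup G} [P.Normal]
    (hPp : IsPGroup p P) (hZW : Z ≤ zj 0 (S : Subgroup G)) {y : G}
    (hyW : y ∈ zj 0 (S : Subgroup G)) (hYP : conjClosure Z ⊤ y ≤ P) [hZ : Z.Normal]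
    (hYc : ∀ u ∈ conjClosure Z ⊤ y, ∀ v ∈ conjClosure Z ⊤ y, ⁅u, v⁆ ∈ Z) :
    (∀ A ∈ fam 0 (S : Subgroup G), A ≤ P) ∨
      ∃ a ∈ (S : Subgroup G), QuadOn Z (conjClosure Z ⊤ y) a ∧ a ∉ P := by
  by_cases hall : ∀ A ∈ fam 0 (S : Subgroup G), A ≤ P
  · exact Or.inl hall
  right
  push Not at hall
  set B := conjClosure Z ⊤ y with hB
  have hBS : B ≤ (S : Subgroup G) := hYP.trans ((isSylowIn_top_of_sylow S).le_of_normal hPp)
  have hBn : B.Normal := normalizer_eq_top_iff.1 (top_le_iff.1 le_normalizer_conjClosure)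
  obtain ⟨A, ⟨hA, hAP⟩, hmax⟩ := Set.exists_max_image
    {A : Subgroup G | A ∈ fam 0 (S : Subgroup G) ∧ ¬ A ≤ P}
    (fun A => Nat.card (A ⊓ B : Subgroup G)) (Set.toFinite _) hall
  have hZA : Z ≤ A := hZW.trans (zj_le_of_mem hA)
  have hBN : B ≤ normalizer (A : Set G) := by
    by_contra hnN
    have hfam : ∀ {C : Subgroup (S : Subgroup G)},
        C ∈ fam 0 (⊤ : Subgroup (S : Subgroup G)) ↔
          C.map (S : Subgroup G).subtype ∈ fam 0 (S : Subgroup G) := by
      intro C
      have h := fam_map_iff (m := 0) (S : Subgroup G).subtype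
        (U := (⊤ : Subgroup (S : Subgroup G))) (Subgroup.subtype_injective _).injOn
        (B := C.map (S : Subgroup G).subtype)
      rw [← MonoidHom.range_eq_map, range_subtype] at h
      rw [h]
      exact ⟨fun hC => ⟨C, hC, rfl⟩, fun ⟨D, hD, he⟩ => map_injective (subtype_injective _) he ▸ hD⟩
    have hAtop : A.subgroupOf (S : Subgroup G) ∈ fam 0 (⊤ : Subgroup (S : Subgroup G)) := by
      rw [hfam, map_subgroupOf_eq_of_le hA.1]; exact hA
    have : (B.subgroupOf (S : Subgroup G)).Normal := hBn.subgroupOf _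
    have hBA' : ⁅B.subgroupOf (S : Subgroup G), B.subgroupOf (S : Subgroup G)⁆ ≤
        A.subgroupOf (S : Subgroup G) := by
      refine Subgroup.commutator_le.2 fun u hu v hv => ?_
      exact hZA (hYc _ (mem_subgroupOf.1 hu) _ (mem_subgroupOf.1 hv))
    have hn' : ¬ B.subgroupOf (S : Subgroup G) ≤
        normalizer (A.subgroupOf (S : Subgroup G) : Set (S : Subgroup G)) := fun h => hnN fun x hx => by
      refine mem_normalizer_of_cj_le (cj_le_iff.2 fun a ha => ?_)
      exact (mem_normalizer_iff.1 (@h ⟨x, hBS hx⟩ hx) ⟨a, hA.1 ha⟩).1 ha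
    obtain ⟨A', hA', -, hlt, hltB, -⟩ :=
      exists_replacement S.2 hp (Or.inl rfl) ⊤ (B.subgroupOf (S : Subgroup G)) hAtop hBA' hn'
    rw [hfam] at hA'
    set A'' := A'.map (S : Subgroup G).subtype with hA''
    have hlt' : A ⊓ B < A'' ⊓ B := by
      have h := (map_lt_map_iff_of_injective (subtype_injective (S : Subgroup G))).2 hlt
      rwa [map_inf _ _ _ (subtype_injective _), map_inf _ _ _ (subtype_injective _),
        map_subgroupOf_eq_of_le hA.1, map_subgroupOf_eq_of_le hBS] at h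
    have hltB' : A'' ⊓ B < B := by
      have h := (map_lt_map_iff_of_injective (subtype_injective (S : Subgroup G))).2 hltB
      rwa [map_inf _ _ _ (subtype_injective _), map_subgroupOf_eq_of_le hBS] at h
    have hA''P : A'' ≤ P := by
      by_contra h
      exact absurd (hmax A'' ⟨hA', h⟩) (not_le_of_gt (Set.ncard_lt_ncard hlt' (Set.toFinite _)))
    have hPS : P ≤ (S : Subgroup G) := (isSylowIn_top_of_sylow S).le_of_normal hPp
    have hA''fam : A'' ∈ fam 0 P := ⟨hA''P, hA'.2.1, fun C hC hCe => hA'.2.2 C (hC.trans hPS) hCe⟩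
    have hsub : zj 0 (S : Subgroup G) ≤ zj 0 P := fun z hz => mem_zj.2 fun C hC => zj_le_of_mem
      ⟨hC.1.trans hPS, hC.2.1, fun D hD hDe =>
        (hA'.2.2 D hD hDe).trans (hC.2.2 A'' hA''P hA''fam.2.1)⟩ hz
    refine hltB'.ne (inf_eq_right.2 ?_)
    refine (conjClosure_le (hZW.trans hsub) (hsub hyW) ?_).trans (zj_le_of_mem hA''fam)
    exact le_trans (le_of_eq (normalizer_eq_top_iff.2 ‹P.Normal›).symm) (normalizer_le 0 P)
  obtain ⟨a, haA, haP⟩ := SetLike.not_le_iff_exists.1 hAP
  refine ⟨a, hA.1 haA, fun u hu => ?_, haP⟩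
  have h1 : ⁅u, a⁆ ∈ A := by
    rw [commutatorElement_def]
    exact mul_mem ((mem_normalizer_iff.1 (hBN hu) a).1 haA) (inv_mem haA)
  rw [commutatorElement_eq_one_iff_commute.2 (hA.2.1.1 _ h1 a haA)]
  exact one_mem Z

end Cfsg.Agent.Lib.ZJFailure
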