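import Mathlib
import Cfsg.Agent.Lib.ZJFailure.Config
import Cfsg.Agent.Lib.ZJFailure.Borel
import Cfsg.Agent.Lib.ZJFailure.Quad

/-!
The configuration inside a subgroup, and the conclusion drawn from it once its torus element is
induced by `N(Z(J(S)))`.
-/

set_option autoImplicit false

namespace Cfsg.Agent.Lib.ZJFailure

open Subgroup Functor ZJ
open scoped commutatorElement

universe u

variable {G : Type u} [Group G] {p : ℕ} [Fact p.Prime]

omit [Fact p.Prime] in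
theorem zc_le_center (S : Subgroup G) : zc S ≤ Subgroup.center G := inf_le_right

instance zc_normal (S : Subgroup G) : (zc S).Normal := normal_of_le_center inf_le_right

variable [Finite G]

omit [Fact p.Prime] in
theorem zc_le_zj (S : Subgroup G) : zc S ≤ zj 0 S := fun x hx => mem_zj.2 fun A hA =>
  mem_of_commute hA hx.1 (pow_zero x) fun a _ => (Subgroup.mem_center_iff.1 hx.2 a).symm

/-- The `p`-th powers and the commutators of `conjClosure Z K y` lie in `Z`. -/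
theorem conjClosure_elementary {Z K P : Subgroup G} [Z.Normal] {y : G}
    (hP : conjClosure Z K y ≤ P) (hKP : K ≤ normalizer (P : Set G))
    (hPy : ∀ x ∈ P, ⁅y, x⁆ ∈ Z) (hy : y ^ p ∈ Z) :
    (∀ u ∈ conjClosure Z K y, ∀ v ∈ conjClosure Z K y, ⁅u, v⁆ ∈ Z) ∧
      ∀ u ∈ conjClosure Z K y, u ^ p ∈ Z := by
  have hc : ∀ u ∈ conjClosure Z K y, ∀ v ∈ conjClosure Z K y, ⁅u, v⁆ ∈ Z := fun u hu v hv =>
    commutator_conjClosure hKP hPy hu (hP hv)
  refine ⟨hc, ?_⟩
  let M : Subgroup G :=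
    { carrier := {u | u ∈ conjClosure Z K y ∧ u ^ p ∈ Z}
      one_mem' := ⟨one_mem _, by rw [one_pow]; exact one_mem Z⟩
      mul_mem' := by
        rintro u v ⟨hu, hup⟩ ⟨hv, hvp⟩
        refine ⟨mul_mem hu hv, ?_⟩
        rw [← QuotientGroup.eq_one_iff, ← QuotientGroup.mk'_apply] at hup hvp ⊢
        have h := hc u hu v hv
        rw [← QuotientGroup.eq_one_iff, ← QuotientGroup.mk'_apply, map_commutatorElement,
          commutatorElement_eq_one_iff_commute] at h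
        rw [map_pow] at hup hvp ⊢
        rw [map_mul, h.mul_pow, hup, hvp, one_mul]
      inv_mem' := by
        rintro u ⟨hu, hup⟩
        exact ⟨inv_mem hu, by rw [inv_pow]; exact inv_mem hup⟩ }
  have hle : conjClosure Z K y ≤ M := by
    refine sup_le (fun z hz => ⟨mem_sup_left hz, pow_mem hz p⟩) ((closure_le _).2 ?_)
    rintro _ ⟨k, hk, rfl⟩
    exact ⟨mem_sup_right (subset_closure ⟨k, hk, rfl⟩), by
      rw [conj_pow]; exact (inferInstance : Z.Normal).conj_mem _ hy k⟩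
  exact fun u hu => (hle hu).2

set_option maxHeartbeats 800000 in
/-- The configuration inside `N2`. -/
theorem exists_config_sub (hp : p ≠ 2) (S : Sylow p G) {N2 T1 Y : Subgroup G}
    (hT1 : IsSylowIn p N2 T1) (hT1S : T1 ≤ (S : Subgroup G)) {y : G}
    (hyW : y ∈ zj 0 (S : Subgroup G)) (hyp : y ^ p ∈ zc (S : Subgroup G))
    (hyT : ∀ s ∈ T1, ⁅y, s⁆ ∈ zc (S : Subgroup G))
    (hY2 : conjClosure (zc (S : Subgroup G)) N2 y ≤ opK p N2)
    (hY2Y : conjClosure (zc (S : Subgroup G)) N2 y ≤ Y) (hN2Y : N2 ≤ normalizer (Y : Set G))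
    {e : G} (heT : e ∈ T1) (heq : QuadOn (zc (S : Subgroup G)) Y e)
    (hek : e ∉ actKer (zc (S : Subgroup G)) (conjClosure (zc (S : Subgroup G)) N2 y : Set G)) :
    ∃ X : Subgroup G, X ≤ T1 ∧ opK p N2 ≤ X ∧
      (∃ a ∈ X, QuadOn (zc (S : Subgroup G)) Y a ∧
        a ∉ actKer (zc (S : Subgroup G)) (conjClosure (zc (S : Subgroup G)) N2 y : Set G)) ∧
      ∃ t ∈ N2, t ∈ normalizer (X : Set G) ∧
        (Rel (zjNormalizer (S : Subgroup G)) X t → Concl p (S : Subgroup G)) := by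
  set Z := zc (S : Subgroup G) with hZ
  set Y2 := conjClosure Z N2 y with hY2d
  set W := zj 0 (S : Subgroup G) with hW
  have hY2N : Y2 ≤ N2 := hY2.trans (opK_le N2)
  have hopT : opK p N2 ≤ T1 := opK_le_sylow hT1
  have hyY2 : y ∈ Y2 := self_mem_conjClosure
  obtain ⟨hYc, hYe⟩ := conjClosure_elementary hY2 (le_normalizer_opK N2)
    (fun x hx => hyT x (hopT hx)) hyp
  obtain ⟨T, hT⟩ := hT1.exists_sylow
  have hZY2 : Z ≤ Y2 := le_sup_left
  haveI : (Z.subgroupOf N2).Normal := Subgroup.Normal.comap inferInstance _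
  haveI : (Y2.subgroupOf N2).Normal := ⟨fun u hu g => by
    rw [mem_subgroupOf] at hu ⊢
    exact (mem_normalizer_iff.1 (le_normalizer_conjClosure g.2) _).1 hu⟩
  have hN2Y2 : N2 ≤ normalizer (Y2 : Set G) := le_normalizer_conjClosure
  let E : Set N2 := {b | (∃ i, b ^ p ^ i = 1) ∧ QuadOn Z Y (b : G) ∧ (b : G) ∉ actKer Z (Y2 : Set G)}
  have hker : ∀ (b : G), ∀ g ∈ N2, b ∈ actKer Z (Y2 : Set G) → g * b * g⁻¹ ∈ actKer Z (Y2 : Set G) := by
    intro b g hg hb
    refine mem_actKer.2 fun u hu => ?_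
    have h := mem_actKer.1 hb _ ((mem_normalizer_iff.1 (hN2Y2 (inv_mem hg)) u).1 hu)
    simpa [mul_assoc] using conj_commutator_mem g h
  have hE : ∀ b ∈ E, ∀ g, g * b * g⁻¹ ∈ E := by
    rintro b ⟨⟨i, hi⟩, hq, hk⟩ g
    refine ⟨⟨i, by rw [conj_pow, hi, mul_one, mul_inv_cancel]⟩, hq.conj (hN2Y g.2), fun h => hk ?_⟩
    simpa [mul_assoc] using hker _ (g : G)⁻¹ (inv_mem g.2) h
  have hEy : ∃ b ∈ E, ⁅(⟨y, hY2N hyY2⟩ : N2), b⁆ ∉ Z.subgroupOf N2 := by
    by_contra h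
    push Not at h
    refine hek (mem_actKer.2 fun u hu => ?_)
    obtain ⟨i, hi⟩ := hT1.isPGroup ⟨e, heT⟩
    have heE : (⟨e, hT1.le heT⟩ : N2) ∈ E :=
      ⟨⟨i, Subtype.ext (congrArg Subtype.val hi :)⟩, heq, hek⟩
    have hle : Y2 ≤ actKer Z ({e} : Set G) := by
      refine sup_le (fun z hz => mem_actKer'.2 fun x _ => ?_) ((closure_le _).2 ?_)
      · rw [show ⁅z, x⁆ = z * (x * z⁻¹ * x⁻¹) by simp only [commutatorElement_def]; group]
        exact mul_mem hz ((zc_normal _).conj_mem _ (inv_mem hz) x)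
      · rintro _ ⟨k, hk, rfl⟩
        refine mem_actKer'.2 fun x hx => ?_
        rw [Set.mem_singleton_iff.1 hx]
        have h1 := mem_subgroupOf.1 (h _ (hE _ heE ⟨k, hk⟩⁻¹))
        simpa [commutatorElement_def, mul_assoc] using conj_commutator_mem k h1
    exact mem_actKer'.1 (hle hu) e rfl
  obtain ⟨X, a, t, μ, hXT, hOX, hYX, haX, ⟨-, haq, hak⟩, htX, hμ,
      ⟨c, hcY, hcZ, hct, hcU⟩, P, ψ, hPY, hψ, hψa, hψt⟩ :=
    exists_config hp T (Z.subgroupOf N2) (Y2.subgroupOf N2) (fun z hz => hZY2 hz)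
      ((opK_isPGroup N2).to_le hY2 |>.comap_of_injective N2.subtype N2.subtype_injective)
      (fun u hu v hv => hYc _ hu _ hv) (fun u hu => hYe _ hu) (y := ⟨y, hY2N hyY2⟩) hyY2
      (fun s hs => hyT _ (by rw [hT] at hs; exact hs)) hE (fun b hb => hb.1)
      (fun b hb u hu => hb.2.1 _ (hY2Y hu)) hEy
  set X' := X.map N2.subtype with hX'
  have hX'T : X' ≤ T1 := by
    rintro _ ⟨x, hx, rfl⟩
    have := hXT hx
    rw [hT] at this
    exact this
  refine ⟨X', hX'T, map_mono hOX, ⟨_, mem_map_of_mem _ haX, haq, hak⟩, t, t.2, ?_, ?_⟩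
  · refine mem_normalizer_of_cj_le (cj_le_iff.2 ?_)
    rintro _ ⟨x, hx, rfl⟩
    exact ⟨t * x * t⁻¹, (mem_normalizer_iff.1 htX x).1 hx, rfl⟩
  rintro ⟨n, hn, hnt⟩
  set H := zjNormalizer (S : Subgroup G) with hH
  have hSH : (S : Subgroup G) ≤ H := le_normalizer.trans (ZJ.normalizer_le 0 _)
  have hXH : X' ≤ H := (hX'T.trans hT1S).trans hSH
  have hnx : ∀ x ∈ X, n * (x : G) * n⁻¹ = (t : G) * x * (t : G)⁻¹ := fun x hx =>
    hnt _ (mem_map_of_mem _ hx)
  refine ⟨?_, ?_⟩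
  · -- F(p)
    set P' := (P.map N2.subtype).subgroupOf H with hP'
    have hPH : P.map N2.subtype ≤ H := (map_mono (hPY.trans hYX)).trans hXH
    let i1 : P' ≃* P :=
      (subgroupOfEquivOfLe hPH).trans (P.equivMapOfInjective N2.subtype N2.subtype_injective).symm
    have hi1 : ∀ x : P', (((i1 x : P) : N2) : G) = ((x : H) : G) := by
      intro x
      have h := congrArg Subtype.val ((P.equivMapOfInjective N2.subtype N2.subtype_injective).apply_symm_apply
        (subgroupOfEquivOfLe hPH x))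
      exact h
    have haH : (a : G) ∈ H := hXH (mem_map_of_mem _ haX)
    let ψ' : P' →* Multiplicative (Fin 2 → ZMod p) := ψ.comp i1.toMonoidHom
    have hconj : ∀ (g : H) (g' : N2), (∀ x ∈ X, (g : G) * (x : G) * (g : G)⁻¹ = g' * x * (g' : G)⁻¹) →
        ∀ {A : Matrix.SpecialLinearGroup (Fin 2) (ZMod p)}, (∀ x : P, ∃ h, (ψ ⟨g' * x * g'⁻¹, h⟩).toAdd =
          Matrix.mulVec A.1 (ψ x).toAdd) →
        g ∈ normalizer (P' : Set H) ∧ ∀ x : P', ∃ h, (ψ' ⟨g * x * g⁻¹, h⟩).toAdd =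
          Matrix.mulVec A.1 (ψ' x).toAdd := by
      intro g g' hg A hψg
      have hmem : ∀ x : P', g * (x : H) * g⁻¹ ∈ P' := by
        intro x
        obtain ⟨h, -⟩ := hψg (i1 x)
        refine mem_subgroupOf.2 ⟨_, h, ?_⟩
        show (g' : G) * ((i1 x : P) : N2) * (g' : G)⁻¹ = (g : G) * (x : H) * (g : G)⁻¹
        rw [← hg _ (hYX (hPY (i1 x).2)), hi1]
      refine ⟨mem_normalizer_of_cj_le (cj_le_iff.2 fun x hx => hmem ⟨x, hx⟩), fun x => ?_⟩
      obtain ⟨h, he⟩ := hψg (i1 x)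
      refine ⟨hmem x, ?_⟩
      show (ψ (i1 _)).toAdd = _
      rw [show i1 ⟨g * x * g⁻¹, hmem x⟩ = ⟨_, h⟩ from Subtype.ext (Subtype.ext (by
        rw [hi1]
        show (g : G) * (x : H) * (g : G)⁻¹ = (g' : G) * ((i1 x : P) : N2) * (g' : G)⁻¹
        rw [← hg _ (hYX (hPY (i1 x).2)), hi1]))]
      exact he
    obtain ⟨h1, h2⟩ := hconj ⟨a, haH⟩ a (fun _ _ => rfl) hψa
    obtain ⟨h3, h4⟩ := hconj ⟨n, hn⟩ t hnx hψt
    exact involves_fOver_of_witness hp P' ψ' (hψ.comp i1.surjective) hμ h1 h3 h2 h4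
  · -- the subgroup of order `p`
    set μn := (μ : ZMod p).val with hμn
    have hcW : (c : G) ∈ W := hcU (W.subgroupOf N2) (fun z hz => zc_le_zj _ hz) hyW (by
      intro u hu huY
      show (t : G) * u * (t : G)⁻¹ ∈ W
      rw [← hnx u (hYX huY)]
      exact (mem_normalizer_iff.1 hn _).1 hu)
    set cG : G := (c : G) with hcG
    set d := n * cG * n⁻¹ with hd
    have hdW : d ∈ W := (mem_normalizer_iff.1 hn _).1 hcW
    set z := (cG ^ μn)⁻¹ * d with hz
    have hcomm : ∀ u ∈ W, ∀ v ∈ W, Commute u v := (abExp_zj 0 _).1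
    have hdt : d = (t : G) * cG * (t : G)⁻¹ := hnx c (hYX hcY)
    have hzZ : z ∈ Z := by
      have h := mem_subgroupOf.1 hct
      push_cast at h
      rw [← hdt] at h
      rw [hz, ← (hcomm d hdW _ (inv_mem (pow_mem hcW μn))).eq]
      exact h
    have hzc : ∀ g : G, g * z * g⁻¹ = z := fun g => by
      rw [Subgroup.mem_center_iff.1 (zc_le_center _ hzZ) g, mul_inv_cancel_right]
    set c1 := d * cG⁻¹ with hc1
    have hc1W : c1 ∈ W := mul_mem hdW (inv_mem hcW)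
    have hcp : cG ^ p ∈ Z := hYe _ hcY
    have hc1p : c1 ^ p = 1 := by
      rw [hc1, (hcomm d hdW _ (inv_mem hcW)).mul_pow, hd, conj_pow, inv_pow]
      rw [Subgroup.mem_center_iff.1 (zc_le_center _ hcp) n, mul_inv_cancel_right, mul_inv_cancel]
    have hc1ne : c1 ≠ 1 := by
      intro h
      rw [hc1, mul_inv_eq_one] at h
      refine hcZ (mem_subgroupOf.2 ?_)
      rw [← QuotientGroup.eq_one_iff]
      have h1 : ((cG : G) : G ⧸ Z) ^ μn = ((cG : G) : G ⧸ Z) ^ 1 := by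
        rw [pow_one, ← QuotientGroup.mk_pow, QuotientGroup.eq]
        have h' := hzZ
        rwa [hz, h] at h'
      rw [pow_eq_pow_iff_modEq] at h1
      by_contra hne
      have ho : orderOf ((cG : G) : G ⧸ Z) = p := orderOf_eq_prime
        (by rw [← QuotientGroup.mk_pow, QuotientGroup.eq_one_iff]; exact hcp) hne
      rw [ho, ← ZMod.natCast_eq_natCast_iff, hμn, ZMod.natCast_zmod_val, Nat.cast_one] at h1
      have : μ = 1 := Units.ext h1
      rw [this, orderOf_one] at hμ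
      have := (Fact.out : p.Prime).two_le
      omega
    have hnc1 : n * c1 * n⁻¹ = c1 ^ μn := by
      have hdz : d = cG ^ μn * z := by rw [hz, mul_inv_cancel_left]
      have hnd : n * d * n⁻¹ = d ^ μn * z := by
        conv_lhs => rw [hdz]
        calc n * (cG ^ μn * z) * n⁻¹ = (n * cG ^ μn * n⁻¹) * (n * z * n⁻¹) := by group
          _ = d ^ μn * z := by rw [hzc, hd, conj_pow]
      calc n * c1 * n⁻¹ = (n * d * n⁻¹) * (n * cG * n⁻¹)⁻¹ := by rw [hc1]; group
        _ = d ^ μn * z * d⁻¹ := by rw [hnd, ← hd]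
        _ = d ^ μn * (cG ^ μn)⁻¹ := by
          rw [mul_assoc]
          congr 1
          rw [hz, mul_assoc, mul_inv_cancel, mul_one]
        _ = c1 ^ μn := by rw [hc1, (hcomm d hdW _ (inv_mem hcW)).mul_pow, inv_pow]
    refine ⟨zpowers c1, zpowers_le.2 hc1W, ?_, n, hn, μ, hμ, ?_⟩
    · rw [Nat.card_zpowers, orderOf_eq_prime hc1p hc1ne]
    · rintro _ ⟨k, rfl⟩
      show n * c1 ^ k * n⁻¹ = (c1 ^ k) ^ μn
      rw [← conj_zpow, hnc1, ← zpow_natCast, ← zpow_natCast, ← _root_.zpow_mul, ← _root_.zpow_mul,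
        mul_comm]

end Cfsg.Agent.Lib.ZJFailure
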