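import Mathlib
import Cfsg.Agent.Lib.ZJFailure.ConfigSub

/-!
Fusion inside `K` of subgroups of a Sylow subgroup `Q` of `K`, by downward induction on the
quadratic part.
-/

set_option autoImplicit false

namespace Cfsg.Agent.Lib.ZJFailure

open Subgroup Functor ZJ
open scoped commutatorElement Pointwise

universe u

variable {G : Type u} [Group G] {p : ℕ}

/-- The quadratic part of `B`. -/
def quadPart (Z Y B : Subgroup G) : Subgroup G := closure {b | b ∈ B ∧ QuadOn Z Y b}

theorem quadPart_le {Z Y B : Subgroup G} : quadPart Z Y B ≤ B := (closure_le _).2 fun _ h => h.1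

theorem quadPart_mono {Z Y B B' : Subgroup G} (h : B ≤ B') : quadPart Z Y B ≤ quadPart Z Y B' :=
  Subgroup.closure_mono fun _ hb => ⟨h hb.1, hb.2⟩

theorem cj_quadPart {Z Y B : Subgroup G} [Z.Normal] {k : G} (hk : k ∈ normalizer (Y : Set G)) :
    cj k (quadPart Z Y B) = quadPart Z Y (cj k B) := by
  rw [quadPart, quadPart, cj, MonoidHom.map_closure]
  congr 1
  ext x
  constructor
  · rintro ⟨b, ⟨hb, hq⟩, rfl⟩
    exact ⟨⟨b, hb, rfl⟩, by simpa [MulAut.conj_apply] using hq.conj hk⟩
  · rintro ⟨⟨b, hb, rfl⟩, hq⟩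
    exact ⟨b, ⟨hb, by simpa [MulAut.conj_apply, mul_assoc] using hq.conj (inv_mem hk)⟩, rfl⟩

theorem mem_normalizer_quadPart [Finite G] {Z Y B : Subgroup G} [Z.Normal] {k : G}
    (hk : k ∈ normalizer (Y : Set G)) (hkB : k ∈ normalizer (B : Set G)) :
    k ∈ normalizer (quadPart Z Y B : Set G) :=
  mem_normalizer_of_cj_eq (by rw [cj_quadPart hk, cj_eq_self_of_mem hkB])

/-- The measure. -/
noncomputable def qWeight (Z Y B : Subgroup G) : ℕ :=
  Nat.card (quadPart Z Y B) * (Nat.card G + 1) + Nat.card B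

variable [Finite G]

theorem qWeight_lt_of_lt {Z Y B B' : Subgroup G} (h : quadPart Z Y B < quadPart Z Y B') :
    qWeight Z Y B < qWeight Z Y B' := by
  have h1 : Nat.card (quadPart Z Y B) < Nat.card (quadPart Z Y B') :=
    Set.Finite.card_lt_card (Set.toFinite _) h
  have h2 := card_le_card_group B
  unfold qWeight
  calc _ < (Nat.card (quadPart Z Y B) + 1) * (Nat.card G + 1) := by rw [add_mul, one_mul]; omega
    _ ≤ Nat.card (quadPart Z Y B') * (Nat.card G + 1) := Nat.mul_le_mul_right _ h1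
    _ ≤ _ := Nat.le_add_right _ _

theorem qWeight_lt_of_le {Z Y B B' : Subgroup G} (h : quadPart Z Y B ≤ quadPart Z Y B')
    (hc : Nat.card B < Nat.card B') : qWeight Z Y B < qWeight Z Y B' := by
  unfold qWeight
  have := Nat.mul_le_mul_right (Nat.card G + 1) (card_le_of_le h)
  omega

theorem qWeight_le (Z Y B : Subgroup G) : qWeight Z Y B ≤ Nat.card G * (Nat.card G + 1) + Nat.card G :=
  add_le_add (Nat.mul_le_mul_right _ (card_le_card_group _)) (card_le_card_group _)

variable [Fact p.Prime]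

/-- Fully normalised conjugates inside a subgroup. -/
theorem exists_fullyNormalized_in {K Q U : Subgroup G} (hQ : IsSylowIn p K Q) (hU : U ≤ Q) :
    ∃ h ∈ K, cj h U ≤ Q ∧
      cj h (Q ⊓ normalizer (U : Set G)) ≤ Q ⊓ normalizer ((cj h U : Subgroup G) : Set G) ∧
      IsSylowIn p (K ⊓ normalizer ((cj h U : Subgroup G) : Set G))
        (Q ⊓ normalizer ((cj h U : Subgroup G) : Set G)) := by
  obtain ⟨R, hR, hQR⟩ := exists_isSylowIn (p := p)
    (inf_le_inf_right _ hQ.le : Q ⊓ normalizer (U : Set G) ≤ K ⊓ normalizer (U : Set G))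
    (hQ.isPGroup.to_le inf_le_left)
  have hUR : U ≤ R := (le_inf hU le_normalizer).trans hQR
  obtain ⟨h, hh, hhR⟩ := hQ.exists_cj_le (hR.le.trans inf_le_left) hR.isPGroup
  have hN : cj h R ≤ normalizer ((cj h U : Subgroup G) : Set G) := by
    rw [← cj_normalizer]; exact cj_mono h (hR.le.trans inf_le_right)
  refine ⟨h, hh, (cj_mono h hUR).trans hhR, (cj_mono h hQR).trans (le_inf hhR hN), ?_⟩
  have hSy : IsSylowIn p (K ⊓ normalizer ((cj h U : Subgroup G) : Set G)) (Functor.cj h R) := by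
    refine ⟨le_inf (hhR.trans hQ.le) hN, isPGroup_cj hR.isPGroup, ?_⟩
    have hKN : K ⊓ normalizer ((cj h U : Subgroup G) : Set G) = cj h (K ⊓ normalizer (U : Set G)) := by
      exact (congrArg₂ _ (cj_eq_self_of_mem (le_normalizer hh)).symm (cj_normalizer h U).symm).trans
        (map_inf K (normalizer (U : Set G)) (MulAut.conj h).toMonoidHom (MulAut.conj h).injective).symm
    rw [hKN, relIndex_map_map_of_injective _ _ (MulAut.conj h).injective]
    exact hR.not_dvd
  rw [← hSy.eq_of_le (le_inf hhR hN) (inf_le_inf_right _ hQ.le) (hQ.isPGroup.to_le inf_le_left)]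
  exact hSy

/-- Fusion inside a coset stabiliser. -/
def Gamma (p : ℕ) [Fact p.Prime] (S : Subgroup G) : Prop :=
  ∀ y ∈ zj 0 S, y ∉ zc S → y ^ p ∈ zc S → actKer (zc S) ({y} : Set G) ≠ ⊤

omit [Fact p.Prime] in
theorem fam_le_actKer {S : Subgroup G} {y : G} (hy : y ∈ zj 0 S) :
    ∀ A ∈ fam 0 S, A ≤ actKer (zc S) ({y} : Set G) := by
  intro A hA a ha
  refine mem_actKer.2 fun u hu => ?_
  rw [Set.mem_singleton_iff.1 hu,
    commutatorElement_eq_one_iff_commute.2 (hA.2.1.1 _ (zj_le_of_mem hA hy) a ha)]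
  exact one_mem _

set_option maxHeartbeats 1000000 in
/-- The fusion of `K` inside `Q`. -/
theorem rel_in_local (hp : p ≠ 2) (hbelow : Below p G) (S : Sylow p G)
    (hS : ¬ Concl p (S : Subgroup G)) (hγ : Gamma p (S : Subgroup G)) {K Q : Subgroup G}
    (hQ : IsSylowIn p K Q) (hQS : Q ≤ (S : Subgroup G))
    (hbig : ∀ (B : Subgroup G) (g : G), B ≤ (S : Subgroup G) → cj g B ≤ (S : Subgroup G) →
      Nat.card Q ≤ Nat.card B → Rel (zjNormalizer (S : Subgroup G)) B g)
    (hIHK : ∀ K' : Subgroup G, K' < K → Q ≤ K' → ∀ (B : Subgroup G) (g : G), B ≤ Q → g ∈ K' →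
      cj g B ≤ Q → Rel (zjNormalizer (S : Subgroup G)) B g)
    {y : G} (hyW : y ∈ zj 0 (S : Subgroup G)) (hyZ : y ∉ zc (S : Subgroup G))
    (hyp : y ^ p ∈ zc (S : Subgroup G)) (hyQ : ∀ q ∈ Q, ⁅y, q⁆ ∈ zc (S : Subgroup G))
    (hYP : conjClosure (zc (S : Subgroup G)) K y ≤ opK p K)
    (hquad : ∃ a ∈ Q, QuadOn (zc (S : Subgroup G)) (conjClosure (zc (S : Subgroup G)) K y) a ∧
      a ∉ opK p K) :
    ∀ (B : Subgroup G) (g : G), B ≤ Q → g ∈ K → cj g B ≤ Q →
      Rel (zjNormalizer (S : Subgroup G)) B g := by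
  set Z := zc (S : Subgroup G) with hZ
  set H := zjNormalizer (S : Subgroup G) with hH
  set Y := conjClosure Z K y with hY
  set P := opK p K with hP
  have hKY : K ≤ normalizer (Y : Set G) := le_normalizer_conjClosure
  have hPQ : P ≤ Q := opK_le_sylow hQ
  suffices main : ∀ d (B : Subgroup G) (g : G), B ≤ Q → g ∈ K → cj g B ≤ Q →
      Nat.card G * (Nat.card G + 1) + Nat.card G < qWeight Z Y B + d → Rel H B g by
    intro B g hB hg hgB
    exact main (Nat.card G * (Nat.card G + 1) + Nat.card G + 1) B g hB hg hgB (by omega)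
  intro d
  induction d with
  | zero => intro B g _ _ _ h; exact absurd (qWeight_le Z Y B) (by omega)
  | succ d ih =>
  intro B g hB hg hgB hd
  have hbg : ∀ (B' : Subgroup G) (g' : G), B' ≤ Q → g' ∈ K → cj g' B' ≤ Q →
      qWeight Z Y B < qWeight Z Y B' → Rel H B' g' := fun B' g' h1 h2 h3 h4 =>
    ih B' g' h1 h2 h3 (by omega)
  by_cases hBQ : B = Q
  · subst hBQ
    exact hbig B g hQS (hgB.trans hQS) le_rfl
  have hgY : g ∈ normalizer (Y : Set G) := hKY hg
  set C1 := cj g B with hC1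
  have hC1card : Nat.card C1 = Nat.card B := card_cj g B
  have hBlt : Nat.card B < Nat.card Q := lt_of_le_of_ne (card_le_of_le hB) fun h =>
    hBQ (eq_of_le_of_card_ge hB h.ge)
  have hδC1 : quadPart Z Y C1 = cj g (quadPart Z Y B) := (cj_quadPart hgY).symm
  have hδcard : ∀ (B' : Subgroup G) (k : G), k ∈ normalizer (Y : Set G) →
      qWeight Z Y (cj k B') = qWeight Z Y B' := fun B' k hk => by
    unfold qWeight; rw [← cj_quadPart hk, card_cj, card_cj]
  have hgrowN : ∀ B' : Subgroup G, B' ≤ Q → qWeight Z Y B' = qWeight Z Y B → B' ≠ Q →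
      qWeight Z Y B < qWeight Z Y (Q ⊓ normalizer (B' : Set G)) := by
    intro B' hB' he hne
    rw [← he]
    exact qWeight_lt_of_le (quadPart_mono (le_inf hB' le_normalizer))
      (Set.Finite.card_lt_card (Set.toFinite _) (lt_inf_normalizer hQ.isPGroup hB' hne))
  have hC1Q : C1 ≠ Q := fun h => by rw [← h, hC1card] at hBlt; exact lt_irrefl _ hBlt
  -- make the quadratic part fully normalised
  set D := quadPart Z Y C1 with hD
  obtain ⟨h1, h1K, h1D, h1N, h1S⟩ := exists_fullyNormalized_in hQ (quadPart_le.trans hgB : D ≤ Q)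
  have hC1ND : Q ⊓ normalizer (C1 : Set G) ≤ Q ⊓ normalizer (D : Set G) := fun x hx =>
    ⟨hx.1, mem_normalizer_quadPart (hKY (hQ.le hx.1)) hx.2⟩
  have hC1D : C1 ≤ Q ⊓ normalizer (D : Set G) := (le_inf hgB le_normalizer).trans hC1ND
  have hwC1 : qWeight Z Y C1 = qWeight Z Y B := hδcard B g hgY
  have hw1 : qWeight Z Y B < qWeight Z Y (Q ⊓ normalizer (D : Set G)) := by
    rw [← hwC1]
    exact qWeight_lt_of_le (quadPart_mono hC1D)
      ((Set.Finite.card_lt_card (Set.toFinite _) (lt_inf_normalizer hQ.isPGroup hgB hC1Q)).trans_le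
        (card_le_of_le hC1ND))
  have rh1 : Rel H C1 h1 :=
    (hbg _ h1 inf_le_left h1K (h1N.trans inf_le_left) hw1).mono hC1D
  set C2 := cj h1 C1 with hC2
  set D1 := cj h1 D with hD1
  set T1 := Q ⊓ normalizer (D1 : Set G) with hT1
  set N2 := K ⊓ normalizer (D1 : Set G) with hN2
  have hC2T1 : C2 ≤ T1 := (cj_mono h1 hC1D).trans h1N
  have hδC2 : quadPart Z Y C2 = D1 := (cj_quadPart (hKY h1K)).symm
  have hwC2 : qWeight Z Y C2 = qWeight Z Y B := (hδcard C1 h1 (hKY h1K)).trans hwC1
  have hC2T1ne : C2 ≠ T1 := by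
    intro h
    have h' := card_le_of_le h1N
    rw [card_cj] at h'
    rw [← h, hC2, card_cj] at h'
    exact absurd h' (not_le_of_gt
      ((Set.Finite.card_lt_card (Set.toFinite _) (lt_inf_normalizer hQ.isPGroup hgB hC1Q)).trans_le
        (card_le_of_le hC1ND)))
  -- make it fully normalised itself
  obtain ⟨h2, h2N, h2C, h2N', h2S⟩ := exists_fullyNormalized_in h1S hC2T1
  have hN2K : N2 ≤ K := inf_le_left
  have hw2 : qWeight Z Y B < qWeight Z Y (T1 ⊓ normalizer (C2 : Set G)) := by
    rw [← hwC2]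
    exact qWeight_lt_of_le (quadPart_mono (le_inf hC2T1 le_normalizer))
      (Set.Finite.card_lt_card (Set.toFinite _)
        (lt_inf_normalizer (hQ.isPGroup.to_le inf_le_left) hC2T1 hC2T1ne))
  have rh2 : Rel H C2 h2 :=
    (hbg _ h2 (inf_le_left.trans inf_le_left) (hN2K h2N) ((h2N'.trans inf_le_left).trans inf_le_left)
      hw2).mono (le_inf hC2T1 le_normalizer)
  set C := cj h2 C2 with hC
  have hwC : qWeight Z Y C = qWeight Z Y B := (hδcard C2 h2 (hKY (hN2K h2N))).trans hwC2
  have hδC : quadPart Z Y C = D1 := by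
    rw [hC, ← cj_quadPart (hKY (hN2K h2N)), hδC2]
    exact cj_eq_self_of_mem h2N.2
  have hCQ : C ≤ Q := h2C.trans inf_le_left
  have hMN2 : K ⊓ normalizer (C : Set G) = N2 ⊓ normalizer (C : Set G) := by
    refine le_antisymm (le_inf (le_inf inf_le_left fun x hx => ?_) inf_le_right)
      (inf_le_inf_right _ hN2K)
    rw [← hδC]
    exact mem_normalizer_quadPart (hKY hx.1) hx.2
  set T := T1 ⊓ normalizer (C : Set G) with hT
  have hTQ : T = Q ⊓ normalizer (C : Set G) := by
    refine le_antisymm (inf_le_inf_right _ inf_le_left) (le_inf (fun x hx => ⟨hx.1, ?_⟩) inf_le_right)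
    rw [← hδC]
    exact mem_normalizer_quadPart (hKY (hQ.le hx.1)) hx.2
  have hTS : IsSylowIn p (K ⊓ normalizer (C : Set G)) T := hMN2 ▸ h2S
  -- the local claim
  have hlocal : ∀ x ∈ K ⊓ normalizer (C : Set G), Rel H C x := by
    intro x hx
    have hbigD : ∀ D' : Subgroup G, C < D' → D' ≤ Q → x ∈ normalizer (D' : Set G) → Rel H C x := by
      intro D' hlt hDQ hxD
      refine (hbg D' x hDQ hx.1 ((cj_eq_self_of_mem hxD).le.trans hDQ) ?_).mono hlt.le
      rw [← hwC]
      exact qWeight_lt_of_le (quadPart_mono hlt.le) (Set.Finite.card_lt_card (Set.toFinite _) hlt)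
    by_cases hPC : P ≤ C
    swap
    · set D' := C ⊔ P ⊓ normalizer (C : Set G) with hD'
      refine hbigD D' (lt_of_le_of_ne le_sup_left fun h => ?_) (sup_le hCQ (inf_le_left.trans hPQ)) ?_
      · have hsub : P ⊓ normalizer (C : Set G) ≤ C := le_sup_right.trans h.ge
        have hCP : C ⊔ P ≤ Q := sup_le hCQ hPQ
        have hne : C ≠ C ⊔ P := fun h => hPC (h ▸ le_sup_right)
        refine (lt_inf_normalizer (hQ.isPGroup.to_le hCP) le_sup_left hne).not_ge fun z hz => ?_
        obtain ⟨hz1, hz2⟩ := mem_inf.1 hz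
        have hz1' : z ∈ (C : Set G) * (P : Set G) := by
          rw [← coe_mul_of_left_le_normalizer_right C P
            ((hCQ.trans hQ.le).trans (le_normalizer_opK K))]
          exact hz1
        obtain ⟨c, hc, q, hq, rfl⟩ := hz1'
        refine mul_mem hc (hsub ⟨hq, ?_⟩)
        have := mul_mem (inv_mem (le_normalizer hc : c ∈ normalizer (C : Set G))) hz2
        simpa using this
      · refine normalizer_inf_normalizer_le_normalizer_sup C _ ⟨hx.2, ?_⟩
        refine mem_normalizer_of_cj_le ?_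
        rw [cj, map_inf _ _ _ (MulAut.conj x).injective]
        exact inf_le_inf (cj_eq_self_of_mem (le_normalizer_opK K hx.1)).le
          ((cj_normalizer x C).trans (by rw [cj_eq_self_of_mem hx.2])).le
    have hPN2 : P ≤ opK p N2 := by
      refine le_opK (fun q hq => ⟨opK_le K hq, ?_⟩) (opK_isPGroup K) (hN2K.trans (le_normalizer_opK K))
      rw [← hδC]
      exact mem_normalizer_quadPart (hKY (opK_le K hq)) (le_normalizer (hPC hq))
    have hD1N2 : D1 ≤ opK p N2 :=
      le_opK (le_inf ((h1D.trans hQ.le)) le_normalizer) (hQ.isPGroup.to_le h1D) inf_le_right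
    by_cases hδT1 : quadPart Z Y T1 ≤ D1
    · -- then `N2` is proper and contains `Q`
      have hT1Q : T1 = Q := by
        by_contra h
        refine (lt_inf_normalizer hQ.isPGroup inf_le_left h).not_ge fun z hz => ⟨hz.1, ?_⟩
        have heq : quadPart Z Y T1 = D1 :=
          le_antisymm hδT1 (hδC ▸ quadPart_mono h2C)
        rw [← heq]
        exact mem_normalizer_quadPart (hKY (hQ.le hz.1)) hz.2
      have hQN2 : Q ≤ N2 := by rw [← hT1Q]; exact h1S.le
      have hlt : N2 < K := by
        refine lt_of_le_of_ne hN2K fun h => ?_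
        obtain ⟨a, haQ, haq, haP⟩ := hquad
        refine haP (le_opK (h1D.trans hQ.le) (hQ.isPGroup.to_le h1D)
          (h ▸ (inf_le_right : N2 ≤ normalizer (D1 : Set G))) (hδT1 (subset_closure ⟨?_, haq⟩)))
        rw [hT1Q]; exact haQ
      exact hIHK N2 hlt hQN2 C x hCQ (hMN2.le hx).1
        ((cj_eq_self_of_mem hx.2).le.trans hCQ)
    obtain ⟨e, ⟨heT, heq⟩, heD⟩ : ∃ e ∈ {b | b ∈ T1 ∧ QuadOn Z Y b}, e ∉ D1 := by
      by_contra h
      push Not at h
      exact hδT1 ((closure_le _).2 h)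
    set Y2 := conjClosure Z N2 y with hY2
    have hY2Y : Y2 ≤ Y := conjClosure_mono hN2K
    have hY2P : Y2 ≤ opK p N2 := (hY2Y.trans hYP).trans hPN2
    have hN2Y2 : N2 ≤ normalizer (Y2 : Set G) := le_normalizer_conjClosure
    set K12 := actKer Z (Y2 : Set G) ⊓ N2 with hK12
    by_cases hek : e ∈ actKer Z (Y2 : Set G)
    · -- the kernel of the action of `N2` on `Y2`
      have hK12n : N2 ≤ normalizer (K12 : Set G) := fun k hk => by
        refine mem_normalizer_of_cj_le (cj_le_iff.2 fun b hb => ⟨?_, ?_⟩)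
        · refine mem_actKer.2 fun u hu => ?_
          have h := mem_actKer.1 hb.1 _ ((mem_normalizer_iff.1 (hN2Y2 (inv_mem hk)) u).1 hu)
          simpa [mul_assoc] using conj_commutator_mem k h
        · exact N2.mul_mem (N2.mul_mem hk hb.2) (N2.inv_mem hk)
      set Mk := K12 ⊓ normalizer (C : Set G) with hMk
      have hMkM : Mk ≤ K ⊓ normalizer (C : Set G) := inf_le_inf_right _ (inf_le_right.trans hN2K)
      have hMkn : K ⊓ normalizer (C : Set G) ≤ normalizer (Mk : Set G) := fun k hk => by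
        refine mem_normalizer_of_cj_le ?_
        rw [cj, map_inf _ _ _ (MulAut.conj k).injective]
        exact inf_le_inf (cj_eq_self_of_mem (hK12n (hMN2.le hk).1)).le
          ((cj_normalizer k C).trans (by rw [cj_eq_self_of_mem hk.2])).le
      by_cases hTk : T ⊓ Mk ≤ C
      · exfalso
        apply heD
        rw [← hδC]
        refine subset_closure ⟨?_, heq⟩
        have hU : C ⊔ T1 ⊓ K12 ≤ T1 := sup_le h2C inf_le_left
        by_contra heC
        have hne : C ≠ C ⊔ T1 ⊓ K12 := fun h => heC (h.ge (mem_sup_right ⟨heT, hek, h1S.le heT⟩))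
        refine (lt_inf_normalizer ((hQ.isPGroup.to_le inf_le_left).to_le hU) le_sup_left hne).not_ge
          fun z hz => ?_
        obtain ⟨hz1, hz2⟩ := mem_inf.1 hz
        have hCn : C ≤ normalizer ((T1 ⊓ K12 : Subgroup G) : Set G) := fun c hc => by
          refine mem_normalizer_of_cj_le ?_
          rw [cj, map_inf _ _ _ (MulAut.conj c).injective]
          exact inf_le_inf (cj_eq_self_of_mem (le_normalizer (h2C hc))).le
            (cj_eq_self_of_mem (hK12n (h1S.le (h2C hc)))).le
        have hz1' : z ∈ (C : Set G) * ((T1 ⊓ K12 : Subgroup G) : Set G) := by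
          rw [← coe_mul_of_left_le_normalizer_right C (T1 ⊓ K12) hCn]
          exact hz1
        obtain ⟨c, hc, q, hq, rfl⟩ := hz1'
        have hqN : q ∈ normalizer (C : Set G) := by
          have := mul_mem (inv_mem (le_normalizer hc : c ∈ normalizer (C : Set G))) hz2
          simpa using this
        exact mul_mem hc (hTk ⟨⟨hq.1, hqN⟩, hq.2, hqN⟩)
      · obtain ⟨m, hm, u, hu, huN, rfl⟩ := exists_frattini hTS hMkM hMkn hx
        have rm : Rel H C m := by
          have hmL : m ∈ actKer Z ({y} : Set G) := mem_actKer.2 fun w hw => by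
            rw [Set.mem_singleton_iff.1 hw]
            exact mem_actKer.1 hm.1.1 y self_mem_conjClosure
          have hQL : C ≤ (S : Subgroup G) ⊓ actKer Z ({y} : Set G) := fun c hc =>
            ⟨hQS (hCQ hc), mem_actKer.2 fun w hw => by
              rw [Set.mem_singleton_iff.1 hw]; exact hyQ c (hCQ hc)⟩
          exact rel_of_proper hbelow S hS (hγ y hyW hyZ hyp) (fam_le_actKer hyW) hmL hQL
            ((cj_eq_self_of_mem hm.2).le.trans hQL)
        have ru : Rel H C u := by
          have hlt : C < C ⊔ T ⊓ Mk := lt_of_le_of_ne le_sup_left fun h => hTk (h ▸ le_sup_right)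
          refine (hbg _ u (sup_le hCQ (inf_le_left.trans (inf_le_left.trans inf_le_left))) hu.1 ?_ ?_).mono
            hlt.le
          · refine (cj_eq_self_of_mem (normalizer_inf_normalizer_le_normalizer_sup C _
              ⟨hu.2, huN⟩)).le.trans (sup_le hCQ (inf_le_left.trans (inf_le_left.trans inf_le_left)))
          · rw [← hwC]
            exact qWeight_lt_of_le (quadPart_mono hlt.le) (Set.Finite.card_lt_card (Set.toFinite _) hlt)
        refine Rel.mul ru ?_
        rwa [cj_eq_self_of_mem hu.2]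
    obtain ⟨X, hXT, hOX, ⟨a, haX, haq, hak⟩, t, htN2, htX, hconcl⟩ :=
      exists_config_sub hp S h1S (inf_le_left.trans hQS) hyW hyp
        (fun s hs => hyQ s hs.1) hY2P hY2Y (hN2K.trans hKY) heT heq hek
    exfalso
    refine hS (hconcl (hbg X t (hXT.trans inf_le_left) (hN2K htN2)
      ((cj_eq_self_of_mem htX).le.trans (hXT.trans inf_le_left)) ?_))
    rw [← hwC]
    refine qWeight_lt_of_lt (lt_of_le_of_ne ?_ fun h => hak ?_)
    · rw [hδC]
      refine le_trans (le_of_eq hδC.symm) ?_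
      exact Subgroup.closure_mono fun b hb =>
        ⟨(hD1N2.trans hOX) (hδC ▸ subset_closure hb), hb.2⟩
    · have haD : a ∈ D1 := by rw [← hδC, h]; exact subset_closure ⟨haX, haq⟩
      refine mem_actKer.2 fun u hu => ?_
      exact commutator_conjClosure (le_normalizer_opK N2)
        (fun n hn => hyQ n ((opK_le_sylow h1S hn).1)) hu (hD1N2 haD)
  -- assemble
  set k := h2 * h1 * g with hk
  have hkK : k ∈ K := mul_mem (mul_mem (hN2K h2N) h1K) hg
  have hkB : cj k B = C := by rw [hC, hC2, hC1, cj_cj, cj_cj, hk, mul_assoc]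
  have hBN : cj k (Q ⊓ normalizer (B : Set G)) ≤ K ⊓ normalizer (C : Set G) := by
    refine le_inf ((cj_mono k (inf_le_left.trans hQ.le)).trans (cj_eq_self_of_mem (le_normalizer hkK)).le) ?_
    rw [← hkB, ← cj_normalizer]
    exact cj_mono k inf_le_right
  obtain ⟨x, hx, hxle⟩ := hTS.exists_cj_le hBN (isPGroup_cj (hQ.isPGroup.to_le inf_le_left))
  rw [cj_cj] at hxle
  have rxk : Rel H B (x * k) :=
    (hbg _ (x * k) inf_le_left (mul_mem hx.1 hkK)
      (hxle.trans (inf_le_left.trans inf_le_left)) (hgrowN B hB rfl hBQ)).mono (le_inf hB le_normalizer)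
  have hxkB : cj (x * k) B = C := by rw [← cj_cj, hkB, cj_eq_self_of_mem hx.2]
  have rk : Rel H B k := by
    have := rxk.mul (h := x⁻¹) (by rw [hxkB]; exact hlocal x⁻¹ (inv_mem hx))
    rwa [inv_mul_cancel_left] at this
  have r12 : Rel H C1 (h2 * h1) := rh1.mul rh2
  have r21 : Rel H C (h2 * h1)⁻¹ := by
    have := r12.inv
    rwa [← cj_cj] at this
  have := rk.mul (h := (h2 * h1)⁻¹) (by rw [hkB]; exact r21)
  rwa [hk, inv_mul_cancel_left] at this

end Cfsg.Agent.Lib.ZJFailure
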