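import Mathlib
import Cfsg.Agent.Lib.ZJFailure.Local

/-!
The local goals at subgroups meeting `Z(J(S))` outside the centre.
-/

set_option autoImplicit false

namespace Cfsg.Agent.Lib.ZJFailure

open Subgroup Functor ZJ
open scoped commutatorElement

universe u

variable {G : Type u} [Group G] [Finite G] {p : ℕ} [Fact p.Prime]

/-- The fusion of `N(U)` inside `N_S(U)`. -/
theorem step_goal (hp : p ≠ 2) (hbelow : Below p G) (S : Sylow p G)
    (hS : ¬ Concl p (S : Subgroup G)) (hγ : Gamma p (S : Subgroup G)) {c : ℕ}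
    (hc : ∀ (B : Subgroup G) (g : G), B ≤ (S : Subgroup G) → cj g B ≤ (S : Subgroup G) →
      c < Nat.card B → Rel (zjNormalizer (S : Subgroup G)) B g) :
    ∀ U : Subgroup G, zc (S : Subgroup G) ≤ U → U ≤ (S : Subgroup G) →
      ¬ zj 0 (S : Subgroup G) ⊓ U ≤ zc (S : Subgroup G) →
      c < Nat.card ↥((S : Subgroup G) ⊓ normalizer (U : Set G)) →
      LocalGoal (S : Subgroup G) (Rel (zjNormalizer (S : Subgroup G))) U := by
  intro U
  induction hd : Nat.card G - Nat.card ↥((S : Subgroup G) ⊓ normalizer (U : Set G))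
    using Nat.strong_induction_on generalizing U with
  | _ d IH =>
  subst hd
  intro hZU hUS hWU hcQ
  set Z := zc (S : Subgroup G) with hZ
  set H := zjNormalizer (S : Subgroup G) with hH
  set Q := (S : Subgroup G) ⊓ normalizer (U : Set G) with hQdef
  have hQS : Q ≤ (S : Subgroup G) := inf_le_left
  have larger : ∀ U' : Subgroup G, Z ≤ U' → U' ≤ (S : Subgroup G) →
      ¬ zj 0 (S : Subgroup G) ⊓ U' ≤ Z →
      Nat.card Q < Nat.card ↥((S : Subgroup G) ⊓ normalizer (U' : Set G)) →
      LocalGoal (S : Subgroup G) (Rel H) U' := by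
    intro U' h1 h2 h3 h4
    refine IH _ ?_ U' rfl h1 h2 h3 (hcQ.trans h4)
    have := card_le_card_group ((S : Subgroup G) ⊓ normalizer (U' : Set G))
    omega
  have hbig : ∀ (B : Subgroup G) (g : G), B ≤ (S : Subgroup G) → cj g B ≤ (S : Subgroup G) →
      Nat.card Q ≤ Nat.card B → Rel H B g := fun B g h1 h2 h3 => hc B g h1 h2 (lt_of_lt_of_le hcQ h3)
  have hS0 := isSylowIn_top_of_sylow S
  by_cases hSy : IsSylowIn p (normalizer (U : Set G)) Q
  swap
  · obtain ⟨h, h1, h2, h3⟩ := exists_fullyNormalized hS0 hUS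
    have hlt : Nat.card Q <
        Nat.card ↥((S : Subgroup G) ⊓ normalizer ((cj h U : Subgroup G) : Set G)) := by
      by_contra hle
      obtain ⟨R, hR, hQR⟩ := exists_isSylowIn (p := p) (inf_le_right : Q ≤ _) (S.2.to_le hQS)
      have hRN : cj h R ≤ normalizer ((cj h U : Subgroup G) : Set G) := by
        rw [← cj_normalizer]; exact cj_mono h hR.le
      have := h3.card_le hRN (isPGroup_cj hR.isPGroup)
      rw [card_cj] at this
      rw [← eq_of_le_of_card_ge hQR (this.trans (not_lt.1 hle))] at hR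
      exact hSy hR
    have rQ : Rel H Q h := hbig Q h hQS (h2.trans inf_le_left) le_rfl
    have hUQ : U ≤ Q := le_inf hUS le_normalizer
    have hZU' : Z ≤ cj h U := fun z hz => by
      rw [mem_cj, mul_assoc, ← Subgroup.mem_center_iff.1 hz.2 h, inv_mul_cancel_left]
      exact hZU hz
    have hWU' : ¬ zj 0 (S : Subgroup G) ⊓ cj h U ≤ Z := by
      obtain ⟨n, hn, hnh⟩ := rQ
      refine fun hle => hWU fun x hx => ?_
      have hz : h * x * h⁻¹ ∈ Z := hle ⟨by
        rw [← hnh x (hUQ hx.2)]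
        exact (mem_normalizer_iff.1 hn x).1 hx.1, conj_mem_cj hx.2⟩
      have e := Subgroup.mem_center_iff.1 hz.2 h⁻¹
      have : x = h * x * h⁻¹ := by
        calc x = h⁻¹ * (h * x * h⁻¹) * h := by group
          _ = h * x * h⁻¹ := by rw [e, inv_mul_cancel_right]
      rwa [← this] at hz
    have hgoal := larger (cj h U) hZU' h1 hWU' hlt
    intro g hg B hB hgB
    have hgB' : cj (h * g * h⁻¹) (cj h B) ≤
        (S : Subgroup G) ⊓ normalizer ((cj h U : Subgroup G) : Set G) := by
      rw [cj_cj, inv_mul_cancel_right, ← cj_cj]; exact (cj_mono h hgB).trans h2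
    have r2 : Rel H (cj h B) (h * g * h⁻¹) := hgoal _
      (by rw [← cj_normalizer]; exact conj_mem_cj hg) _ ((cj_mono h hB).trans h2) hgB'
    have r3 : Rel H B (h * g) := by
      have := (rQ.mono hB).mul r2
      rwa [inv_mul_cancel_right] at this
    have r4 : Rel H (cj (h * g) B) h⁻¹ := by
      rw [← cj_cj]; exact (rQ.mono hgB).inv
    have := r3.mul r4
    rwa [inv_mul_cancel_left] at this
  -- `Q` is a Sylow subgroup of `N(U)`
  suffices main : ∀ K : Subgroup G, Q ≤ K → K ≤ normalizer (U : Set G) →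
      ∀ (B : Subgroup G) (g : G), B ≤ Q → g ∈ K → cj g B ≤ Q → Rel H B g from
    fun g hg B hB hgB => main _ inf_le_right le_rfl B g hB hg hgB
  intro K
  induction hk : Nat.card K using Nat.strong_induction_on generalizing K with
  | _ k IHK =>
  subst hk
  intro hQK hKU
  have hIHK : ∀ K' : Subgroup G, K' < K → Q ≤ K' → ∀ (B : Subgroup G) (g : G), B ≤ Q → g ∈ K' →
      cj g B ≤ Q → Rel H B g := fun K' hlt hQK' =>
    IHK _ (Set.Finite.card_lt_card (Set.toFinite _) hlt) K' rfl hQK' (hlt.le.trans hKU)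
  have hQ : IsSylowIn p K Q := hSy.inter hQK hKU
  have hUQ : U ≤ Q := le_inf hUS le_normalizer
  obtain ⟨y, hyD, hyZ, hyp, hyQ⟩ := exists_fixed_mod (Z := Z) (D := zj 0 (S : Subgroup G) ⊓ U)
    (S.2.to_le hQS) (inf_le_right.trans hUQ) (fun q hq => by
      refine mem_normalizer_of_cj_le ?_
      rw [cj, map_inf _ _ _ (MulAut.conj q).injective]
      exact inf_le_inf
        (cj_eq_self_of_mem (ZJ.normalizer_le 0 _ (le_normalizer (hQS hq)))).le
        (cj_eq_self_of_mem hq.2).le) hWU
  have hUP : U ≤ opK p K := le_opK (hUQ.trans hQK) (S.2.to_le hUS) hKU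
  have hYU : conjClosure Z K y ≤ U := conjClosure_le hZU hyD.2 hKU
  have hYP : conjClosure Z K y ≤ opK p K := hYU.trans hUP
  obtain ⟨hYc, -⟩ := conjClosure_elementary hYP (le_normalizer_opK K)
    (fun x hx => hyQ x (opK_le_sylow hQ hx)) hyp
  have finish : (∃ a ∈ Q, QuadOn Z (conjClosure Z K y) a ∧ a ∉ opK p K) →
      ∀ (B : Subgroup G) (g : G), B ≤ Q → g ∈ K → cj g B ≤ Q → Rel H B g :=
    fun hq => rel_in_local hp hbelow S hS hγ hQ hQS hbig hIHK hyD.1 hyZ hyp hyQ hYP hq
  by_cases hQeq : Q = (S : Subgroup G)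
  · by_cases hKtop : K = ⊤
    · subst hKtop
      haveI : (opK p (⊤ : Subgroup G)).Normal :=
        normalizer_eq_top_iff.1 (top_le_iff.1 (le_normalizer_opK ⊤))
      rcases exists_quad_top hp S (Z := Z) (P := opK p (⊤ : Subgroup G)) (opK_isPGroup _)
        (zc_le_zj _) hyD.1 hYP hYc with hall | ⟨a, haS, haq, haP⟩
      · intro B g _ _ _
        refine Rel.of_mem ?_
        have hW := zj_eq_of_fam_le S (opK_isPGroup (p := p) (⊤ : Subgroup G)) hall
        have := ZJ.normalizer_le 0 (opK p (⊤ : Subgroup G))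
          ((normalizer_eq_top_iff.2 ‹(opK p (⊤ : Subgroup G)).Normal›).symm ▸ mem_top g)
        rwa [hW] at this
      · exact finish ⟨a, hQeq ▸ haS, haq, haP⟩
    · intro B g hB hg hgB
      exact rel_of_proper hbelow S hS hKtop
        (fun A hA => hA.1.trans (hQeq ▸ hQK)) hg (le_inf (hB.trans hQS) (hB.trans hQK))
        (le_inf (hgB.trans hQS) (hgB.trans hQK))
  · have hlt := lt_inf_normalizer S.2 hQS hQeq
    obtain ⟨s, hs, hsQ⟩ := SetLike.exists_of_lt hlt
    rcases exists_quad_or_larger (s := s) hQ (cj_eq_self_of_mem hs.2) le_normalizer_conjClosure hYP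
      hYc with hq | ⟨F, hYF, hFP, hKF, hsF⟩
    · exact finish hq
    · intro B g hB hg hgB
      have hFS : F ≤ (S : Subgroup G) := hFP.trans ((opK_le_sylow hQ).trans hQS)
      have hQF : Q ≤ (S : Subgroup G) ⊓ normalizer (F : Set G) := le_inf hQS (hQK.trans hKF)
      refine larger F ((le_sup_left : Z ≤ conjClosure Z K y).trans hYF) hFS
        (fun h => hyZ (h ⟨hyD.1, hYF self_mem_conjClosure⟩)) ?_ g (hKF hg) B (hB.trans hQF)
        (hgB.trans hQF)
      exact Set.Finite.card_lt_card (Set.toFinite _)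
        (show Q < _ from lt_of_le_of_ne hQF fun h => hsQ (h.ge ⟨hs.1, hsF⟩))

end Cfsg.Agent.Lib.ZJFailure
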