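import Mathlib
import Cfsg.Agent.Lib.ZJFailure.Step

/-!
Either F(p) and a full automorphism group on a subgroup of order `p` occur, or `N(Z(J(S)))`
controls strong fusion.
-/

set_option autoImplicit false

namespace Cfsg.Agent.Lib.ZJFailure

open Subgroup Functor ZJ
open scoped commutatorElement Pointwise

universe u

variable {G : Type u} [Group G] [Finite G] {p : ℕ} [Fact p.Prime]

/-- A subgroup containing a power of `p` of every element of `M` is covered by a Sylow subgroup. -/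
theorem exists_mul_sylow {M N T : Subgroup G} (hT : IsSylowIn p M T)
    (hMN : M ≤ normalizer (N : Set G)) (hpow : ∀ x ∈ M, ∃ i, x ^ p ^ i ∈ N) {x : G} (hx : x ∈ M) :
    ∃ m ∈ N, m ∈ M ∧ ∃ t ∈ T, x = m * t := by
  obtain ⟨P, hP⟩ := hT.exists_sylow
  set K := N.subgroupOf M with hK
  haveI : K.Normal := ⟨fun k hk g => by
    rw [hK, mem_subgroupOf] at hk ⊢
    exact (mem_normalizer_iff.1 (hMN g.2) _).1 hk⟩
  have hquot : IsPGroup p (M ⧸ K) := by
    intro z
    obtain ⟨n, rfl⟩ := QuotientGroup.mk_surjective z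
    obtain ⟨i, hi⟩ := hpow n n.2
    exact ⟨i, by rw [← QuotientGroup.mk_pow, QuotientGroup.eq_one_iff, hK, mem_subgroupOf]; exact hi⟩
  have htop : (P : Subgroup M).map (QuotientGroup.mk' K) = ⊤ := by
    have h := (P.mapSurjective (QuotientGroup.mk'_surjective K)).3 (Q := ⊤) (hquot.to_subgroup _)
      le_top
    rw [Sylow.coe_mapSurjective] at h
    exact h.symm
  obtain ⟨s, hs, hse⟩ : QuotientGroup.mk' K ⟨x, hx⟩ ∈ (P : Subgroup M).map (QuotientGroup.mk' K) :=
    htop ▸ mem_top _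
  have hk : (⟨x, hx⟩ : M) * s⁻¹ ∈ K := by
    rw [← QuotientGroup.eq_one_iff, ← QuotientGroup.mk'_apply, map_mul, map_inv, hse, mul_inv_cancel]
  rw [hP] at hs
  exact ⟨x * (s : G)⁻¹, mem_subgroupOf.1 hk, mul_mem hx (inv_mem s.2), s, hs, by group⟩

/-- A coset stabiliser of an element of `Z(J(S))` is everything: the reduction to the centraliser. -/
theorem controls_of_actKer_eq_top (hbelow : Below p G) (S : Sylow p G)
    (hS : ¬ Concl p (S : Subgroup G)) {y : G} (hyW : y ∈ zj 0 (S : Subgroup G))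
    (hyZ : y ∉ zc (S : Subgroup G)) (hyp : y ^ p ∈ zc (S : Subgroup G))
    (htop : actKer (zc (S : Subgroup G)) ({y} : Set G) = ⊤) : Controls (S : Subgroup G) := by
  set Z := zc (S : Subgroup G) with hZ
  set H := zjNormalizer (S : Subgroup G) with hH
  have hSH : (S : Subgroup G) ≤ H := le_normalizer.trans (ZJ.normalizer_le 0 _)
  set G1 := centralizer ({y} : Set G) with hG1
  have hzy : ∀ g : G, ∃ z ∈ Z, g * y * g⁻¹ = y * z := fun g => by
    have h := mem_actKer.1 (htop ▸ mem_top g : g ∈ actKer Z ({y} : Set G)) y rfl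
    refine ⟨⁅y⁻¹, g⁆, ?_, by simp only [commutatorElement_def]; group⟩
    have e : ⁅y⁻¹, g⁆ = y⁻¹ * ⁅y, g⁆⁻¹ * y := by simp only [commutatorElement_def]; group
    rw [e, ← Subgroup.mem_center_iff.1 (inv_mem h).2 y⁻¹ |>.symm, inv_mul_cancel_right]
    exact inv_mem h
  have hG1mem : ∀ g : G, g ∈ G1 ↔ g * y = y * g := fun g => mem_centralizer_singleton_iff
  have hG1n : G1.Normal := ⟨fun h hh k => by
    rw [hG1mem] at hh ⊢
    obtain ⟨z, hz, hze⟩ := hzy k⁻¹
    rw [inv_inv] at hze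
    have hzc := Subgroup.mem_center_iff.1 hz.2
    calc k * h * k⁻¹ * y = k * (h * (k⁻¹ * y * k)) * k⁻¹ := by group
      _ = k * ((h * y) * z) * k⁻¹ := by rw [hze]; group
      _ = k * (y * (h * z)) * k⁻¹ := by rw [hh]; group
      _ = k * ((y * z) * h) * k⁻¹ := by rw [hzc h]; group
      _ = k * ((k⁻¹ * y * k) * h) * k⁻¹ := by rw [hze]
      _ = y * (k * h * k⁻¹) := by group⟩
  have hG1top : G1 ≠ ⊤ := fun h => hyZ ⟨zj_le 0 _ hyW, Subgroup.mem_center_iff.2 fun g =>
    (hG1mem g).1 (h ▸ mem_top g)⟩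
  have hfam : ∀ A ∈ fam 0 (S : Subgroup G), A ≤ G1 := fun A hA a ha =>
    (hG1mem a).2 (hA.2.1.1 a ha y (zj_le_of_mem hA hyW)).eq
  have hpow : ∀ g : G, g ^ p ∈ G1 := by
    intro g
    obtain ⟨z, hz, hze⟩ := hzy g
    have hzc := Subgroup.mem_center_iff.1 hz.2
    have hzp : z ^ p = 1 := by
      have h := conj_pow (i := p) (a := g) (b := y)
      rw [hze, Subgroup.mem_center_iff.1 hyp.2 g, mul_inv_cancel_right,
        (show Commute y z from hzc y).mul_pow] at h
      exact mul_eq_left.1 h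
    have hk : ∀ k : ℕ, g ^ k * y = y * z ^ k * g ^ k := by
      intro k
      induction k with
      | zero => simp
      | succ k ih =>
        have hgz : g * z ^ k = z ^ k * g := ((show Commute g z from hzc g).pow_right k).eq
        have hgy : g * y = y * z * g := by rw [← hze]; group
        calc g ^ (k + 1) * y = g * (g ^ k * y) := by rw [pow_succ', mul_assoc]
          _ = g * y * z ^ k * g ^ k := by rw [ih]; group
          _ = y * z * (g * z ^ k) * g ^ k := by rw [hgy]; group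
          _ = y * z ^ (k + 1) * g ^ (k + 1) := by rw [hgz, pow_succ', pow_succ']; group
    rw [hG1mem, hk, hzp, mul_one]
  have hS0 := isSylowIn_top_of_sylow S
  refine (engineOn (good := fun _ => False) hS0 (rel_isFusionProp _ H) (fun _ _ h => h.elim)
    (fun C _ hCS _ hT hbigger => ?_) (fun _ _ _ h => h.elim)).1
  set M := normalizer (C : Set G) with hM
  set T := (S : Subgroup G) ⊓ M with hTdef
  intro x hx
  suffices hm : ∀ m ∈ G1, m ∈ M → Rel H C m by
    obtain ⟨m, hm1, hmM, t, ht, rfl⟩ := exists_mul_sylow hT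
      (le_trans le_top (normalizer_eq_top_iff.2 hG1n).ge) (fun x _ => ⟨1, by rw [pow_one]; exact hpow x⟩) hx
    refine Rel.mul (Rel.of_mem (hSH ht.1)) ?_
    rw [cj_eq_self_of_mem ht.2]
    exact hm m hm1 hmM
  intro m hm1 hmM
  set C1 := C ⊓ G1 with hC1
  have hC1L : C1 ≤ (S : Subgroup G) ⊓ G1 := inf_le_inf_right _ hCS
  have hMC1 : M ≤ normalizer (C1 : Set G) := fun k hk => by
    refine mem_normalizer_of_cj_le ?_
    rw [cj, map_inf _ _ _ (MulAut.conj k).injective]
    exact inf_le_inf (cj_eq_self_of_mem hk).le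
      (cj_le_iff.2 fun u hu => hG1n.conj_mem u hu k)
  obtain ⟨n, ⟨hnH, hn1⟩, hnm⟩ := rel_of_proper_inf hbelow S hS hG1top hfam hm1 hC1L
    ((cj_eq_self_of_mem (hMC1 hmM)).le.trans hC1L)
  set E := G1 ⊓ centralizer (C1 : Set G) with hE
  have hME : M ≤ normalizer (E : Set G) := fun k hk => by
    refine mem_normalizer_of_cj_le (cj_le_iff.2 fun u hu => ⟨hG1n.conj_mem u hu.1 k, ?_⟩)
    refine mem_centralizer_iff.2 fun c hc => ?_
    have h := mem_centralizer_iff.1 hu.2 _ ((mem_normalizer_iff.1 (inv_mem (hMC1 hk)) c).1 hc)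
    calc c * (k * u * k⁻¹) = k * (k⁻¹ * c * k⁻¹⁻¹ * u) * k⁻¹ := by group
      _ = k * (u * (k⁻¹ * c * k⁻¹⁻¹)) * k⁻¹ := by rw [h]
      _ = k * u * k⁻¹ * c := by group
  set ME := M ⊓ E with hMEdef
  have hMMEn : M ≤ normalizer (ME : Set G) := fun k hk => by
    refine mem_normalizer_of_cj_le ?_
    rw [cj, map_inf _ _ _ (MulAut.conj k).injective]
    exact inf_le_inf (cj_eq_self_of_mem (le_normalizer hk)).le (cj_eq_self_of_mem (hME hk)).le
  have hTS := hT.inf_normal (inf_le_left : ME ≤ M) hMMEn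
  have rME : ∀ e ∈ ME, Rel H C e := by
    intro e he
    obtain ⟨c, hcME, hcc, s, hs, rfl⟩ := exists_mul_of_stabilising hTS (S.2.to_le hCS)
      inf_le_left (inf_le_left : C1 ≤ C) (fun k hk c hc => by
        rw [← mem_centralizer_iff.1 hk.2.2 c hc, mul_inv_cancel_right])
      (fun k hk c hc => by
        have hk1 : k ∈ G1 := hk.2.1
        refine ⟨?_, ?_⟩
        · rw [commutatorElement_def]
          exact C.mul_mem ((mem_normalizer_iff.1 hk.1 c).1 hc) (C.inv_mem hc)
        · rw [commutatorElement_def, mul_assoc, mul_assoc, ← mul_assoc c]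
          exact mul_mem hk1 (hG1n.conj_mem _ (inv_mem hk1) c)) he
    refine Rel.mul (Rel.of_mem (hSH hs.1.1)) ?_
    rw [cj_eq_self_of_mem hs.1.2]
    exact Rel.of_centralize fun b hb => by rw [← mem_centralizer_iff.1 hcc b hb, mul_inv_cancel_right]
  by_cases hTE : T ⊓ ME ≤ C
  swap
  · obtain ⟨e, he, u, hu, huN, rfl⟩ := exists_frattini hT (inf_le_left : ME ≤ M) hMMEn hmM
    refine Rel.mul ?_ (by rw [cj_eq_self_of_mem hu]; exact rME e he)
    have hlt : C < C ⊔ T ⊓ ME := lt_of_le_of_ne le_sup_left fun h => hTE (h ▸ le_sup_right)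
    have hDS : C ⊔ T ⊓ ME ≤ (S : Subgroup G) := sup_le hCS (inf_le_left.trans inf_le_left)
    refine (hbigger _ u hDS ?_ (Set.Finite.card_lt_card (Set.toFinite _) hlt)).mono hlt.le
    exact (cj_eq_self_of_mem (normalizer_inf_normalizer_le_normalizer_sup C _ ⟨hu, huN⟩)).le.trans hDS
  -- `C` is a Sylow subgroup of `EC`
  have hCM : C ≤ M := le_normalizer
  have hCE : C ≤ normalizer (E : Set G) := hCM.trans hME
  have hSy : IsSylowIn p (C ⊔ E) C := by
    obtain ⟨R, hR, hCR⟩ := exists_isSylowIn (p := p) (le_sup_left : C ≤ C ⊔ E) (S.2.to_le hCS)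
    have hRC : R = C := by
      by_contra hne
      refine (lt_inf_normalizer hR.isPGroup hCR (Ne.symm hne)).not_ge fun z hz => ?_
      obtain ⟨hzR, hzN⟩ := mem_inf.1 hz
      have hz1 : z ∈ (C : Set G) * (E : Set G) := by
        rw [← coe_mul_of_left_le_normalizer_right C E hCE]; exact hR.le hzR
      obtain ⟨c, hc, e, he, rfl⟩ := hz1
      have heR : e ∈ R := by
        have := mul_mem (inv_mem (hCR hc)) hzR
        simpa using this
      have heN : e ∈ M := by
        have := mul_mem (inv_mem (hCM hc)) hzN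
        simpa using this
      obtain ⟨h, hh, hle⟩ := hTS.exists_cj_le (inf_le_right : R ⊓ ME ≤ ME)
        (hR.isPGroup.to_le inf_le_left)
      have h1 : h * e * h⁻¹ ∈ C := hTE (hle (conj_mem_cj ⟨heR, heN, he⟩))
      refine mul_mem hc ?_
      have := (mem_normalizer_iff.1 (inv_mem hh.1 : h⁻¹ ∈ normalizer (C : Set G)) _).1 h1
      simpa [mul_assoc] using this
    rwa [hRC] at hR
  have hCH : C ≤ H := hCS.trans hSH
  set e0 := m⁻¹ * n with he0
  have he0E : e0 ∈ E := ⟨G1.mul_mem (G1.inv_mem hm1) hn1, mem_centralizer_iff.2 fun c hc => by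
    have h := hnm c hc
    calc c * (m⁻¹ * n) = m⁻¹ * (m * c * m⁻¹) * n := by group
      _ = m⁻¹ * (n * c * n⁻¹) * n := by rw [h]
      _ = m⁻¹ * n * c := by group⟩
  have hC' : cj n⁻¹ C ≤ (C ⊔ E) ⊓ H := cj_le_iff.2 fun c hc => by
    refine ⟨?_, H.mul_mem (H.mul_mem (H.inv_mem hnH) (hCH hc)) (H.inv_mem (H.inv_mem hnH))⟩
    rw [show n⁻¹ * c * n⁻¹⁻¹ = e0⁻¹ * (m⁻¹ * c * m⁻¹⁻¹) * e0 by rw [he0]; group]
    exact mul_mem (mul_mem (mem_sup_right (inv_mem he0E))
      (mem_sup_left ((mem_normalizer_iff.1 (inv_mem hmM) c).1 hc))) (mem_sup_right he0E)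
  obtain ⟨f, hf, hfle⟩ := (hSy.inter (le_inf le_sup_left hCH) inf_le_left).exists_cj_le hC'
    (isPGroup_cj (S.2.to_le hCS))
  have hf1 : f ∈ (C : Set G) * (E : Set G) := by
    rw [← coe_mul_of_left_le_normalizer_right C E hCE]; exact hf.1
  obtain ⟨c, hc, e, he, rfl⟩ := hf1
  have heH : e ∈ H := by
    have := mul_mem (inv_mem (hCH hc)) hf.2
    simpa using this
  have hee : cj e (cj n⁻¹ C) ≤ C := by
    rw [← cj_cj] at hfle
    have := cj_mono c⁻¹ hfle
    rw [cj_inv_cj] at this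
    exact this.trans (cj_eq_self_of_mem (inv_mem (hCM hc))).le
  have hn' : n * e⁻¹ ∈ M := by
    rw [cj_cj] at hee
    have := inv_mem (mem_normalizer_of_cj_le hee)
    rwa [mul_inv_rev, inv_inv] at this
  have he' : m⁻¹ * (n * e⁻¹) ∈ ME := ⟨M.mul_mem (M.inv_mem hmM) hn', by
    rw [← mul_assoc]; exact E.mul_mem he0E (E.inv_mem he)⟩
  have := Rel.mul (rME _ (inv_mem he'))
    (Rel.of_mem (B := cj (m⁻¹ * (n * e⁻¹))⁻¹ C) (mul_mem hnH (inv_mem heH)))
  rwa [mul_inv_rev, inv_inv, mul_inv_cancel_left] at this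

/-- The main dichotomy. -/
theorem controls_of_not_concl (hp : p ≠ 2) (S : Sylow p G) (hS : ¬ Concl p (S : Subgroup G)) :
    Controls (S : Subgroup G) := by
  induction hn : Nat.card G using Nat.strong_induction_on generalizing G with
  | _ n IH =>
  subst hn
  have hbelow : Below p G := fun L hL T hT =>
    IH _ (lt_of_le_of_ne (card_le_card_group L) fun h => hL (Subgroup.eq_top_of_card_eq L h)) T hT rfl
  set Z := zc (S : Subgroup G) with hZ
  set W := zj 0 (S : Subgroup G) with hW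
  set H := zjNormalizer (S : Subgroup G) with hH
  by_cases hWZ : W ≤ Z
  · intro B g _ _
    refine Rel.of_mem (mem_normalizer_of_cj_le (cj_le_iff.2 fun x hx => ?_))
    rw [Subgroup.mem_center_iff.1 (hWZ hx).2 g, mul_inv_cancel_right]
    exact hx
  by_cases hγ : Gamma p (S : Subgroup G)
  swap
  · simp only [Gamma, not_forall, not_not] at hγ
    obtain ⟨y, hyW, hyZ, hyp, htop⟩ := hγ
    exact controls_of_actKer_eq_top hbelow S hS hyW hyZ hyp htop
  have hSH : (S : Subgroup G) ≤ H := le_normalizer.trans (ZJ.normalizer_le 0 _)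
  obtain ⟨z, hzW, hzZ, hzp, hzS⟩ := exists_fixed_mod (Z := Z) (D := W) S.2 (zj_le 0 _) hSH hWZ
  have hS0 := isSylowIn_top_of_sylow S
  refine (engineOn (good := fun _ => False) hS0 (rel_isFusionProp _ H) (fun _ _ h => h.elim)
    (fun C _ hCS _ hT hbigger => ?_) (fun _ _ _ h => h.elim)).1
  intro x hx
  set M := normalizer (C : Set G) with hM
  set T := (S : Subgroup G) ⊓ M with hTdef
  by_cases hCeq : C = (S : Subgroup G)
  · subst hCeq
    exact Rel.of_mem (ZJ.normalizer_le 0 _ hx)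
  have hCT : C < T := lt_inf_normalizer S.2 hCS hCeq
  have hextend : ∀ D u, ¬ T ⊓ D ≤ C → u ∈ M → u ∈ normalizer ((T ⊓ D : Subgroup G) : Set G) →
      Rel H C u := by
    intro D u hD hu huN
    have hlt : C < C ⊔ T ⊓ D := lt_of_le_of_ne le_sup_left fun h => hD (h ▸ le_sup_right)
    have hDS : C ⊔ T ⊓ D ≤ (S : Subgroup G) := sup_le hCS (inf_le_left.trans inf_le_left)
    refine (hbigger _ u hDS ?_ (Set.Finite.card_lt_card (Set.toFinite _) hlt)).mono hlt.le
    exact (cj_eq_self_of_mem (normalizer_inf_normalizer_le_normalizer_sup C _ ⟨hu, huN⟩)).le.trans hDS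
  -- the centraliser of `C`
  have hcM : centralizer (C : Set G) ≤ M := centralizer_le_normalizer _
  have hMc : M ≤ normalizer ((centralizer (C : Set G) : Subgroup G) : Set G) := fun k hk => by
    refine mem_normalizer_of_cj_le (cj_le_iff.2 fun u hu => mem_centralizer_iff.2 fun c hc => ?_)
    have h := mem_centralizer_iff.1 hu _ ((mem_normalizer_iff.1 (inv_mem hk) c).1 hc)
    calc c * (k * u * k⁻¹) = k * (k⁻¹ * c * k⁻¹⁻¹ * u) * k⁻¹ := by group
      _ = k * (u * (k⁻¹ * c * k⁻¹⁻¹)) * k⁻¹ := by rw [h]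
      _ = k * u * k⁻¹ * c := by group
  by_cases hTC : T ⊓ centralizer (C : Set G) ≤ C
  swap
  · obtain ⟨e, he, u, hu, huN, rfl⟩ := exists_frattini hT hcM hMc hx
    refine Rel.mul (hextend _ u hTC hu huN) ?_
    rw [cj_eq_self_of_mem hu]
    exact Rel.of_centralize fun b hb => by rw [← mem_centralizer_iff.1 he b hb, mul_inv_cancel_right]
  have hZC : Z ≤ C := fun w hw => hTC ⟨⟨hw.1, hcM (mem_centralizer_iff.2 fun c _ =>
    Subgroup.mem_center_iff.1 hw.2 c)⟩, mem_centralizer_iff.2 fun c _ => Subgroup.mem_center_iff.1 hw.2 c⟩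
  have hzM : z ∈ M := mem_normalizer_of_cj_le (cj_le_iff.2 fun c hc => by
    rw [show z * c * z⁻¹ = ⁅z, c⁆ * c by simp only [commutatorElement_def]; group]
    exact mul_mem (hZC (hzS c (hCS hc))) hc)
  have hzT : z ∈ T := ⟨zj_le 0 _ hzW, hzM⟩
  by_cases hzC : z ∈ C
  swap
  · set N0 := M ⊓ actKer Z (C : Set G) with hN0
    have hMN0 : M ≤ normalizer (N0 : Set G) := fun k hk => by
      refine mem_normalizer_of_cj_le (cj_le_iff.2 fun u hu =>
        ⟨M.mul_mem (M.mul_mem hk hu.1) (M.inv_mem hk), mem_actKer.2 fun c hc => ?_⟩)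
      have h := mem_actKer.1 hu.2 _ ((mem_normalizer_iff.1 (inv_mem hk) c).1 hc)
      simpa [mul_assoc] using conj_commutator_mem k h
    have hzN0 : z ∈ N0 := ⟨hzM, mem_actKer'.2 fun c hc => hzS c (hCS hc)⟩
    obtain ⟨e, he, u, hu, huN, rfl⟩ := exists_frattini hT (inf_le_left : N0 ≤ M) hMN0 hx
    refine Rel.mul (hextend _ u (fun h => hzC (h ⟨hzT, hzN0⟩)) hu huN) ?_
    rw [cj_eq_self_of_mem hu]
    obtain ⟨c, hcN0, hcc, s, hs, rfl⟩ :=
      exists_mul_of_stabilising (hT.inf_normal (inf_le_left : N0 ≤ M) hMN0) (S.2.to_le hCS)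
        inf_le_left hZC (fun k _ w hw => by
          rw [Subgroup.mem_center_iff.1 hw.2 k, mul_inv_cancel_right])
        (fun k hk c hc => mem_actKer'.1 hk.2 c hc) he
    refine Rel.mul (Rel.of_mem (hSH hs.1.1)) ?_
    rw [cj_eq_self_of_mem hs.1.2]
    exact Rel.of_centralize fun b hb => by rw [← mem_centralizer_iff.1 hcc b hb, mul_inv_cancel_right]
  set U0 := conjClosure Z M z with hU0
  have hU0C : U0 ≤ C := conjClosure_le hZC hzC le_rfl
  have hMU0 : M ≤ normalizer (U0 : Set G) := le_normalizer_conjClosure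
  have hTU : T ≤ (S : Subgroup G) ⊓ normalizer (U0 : Set G) := le_inf inf_le_left (inf_le_right.trans hMU0)
  refine step_goal hp hbelow S hS hγ (c := Nat.card C) (fun B g h1 h2 h3 => hbigger B g h1 h2 h3) U0
    le_sup_left (hU0C.trans hCS) (fun h => hzZ (h ⟨hzW, self_mem_conjClosure⟩))
    (lt_of_lt_of_le (Set.Finite.card_lt_card (Set.toFinite _) hCT) (card_le_of_le hTU))
    x (hMU0 hx) C (hCT.le.trans hTU) ((cj_eq_self_of_mem hx).le.trans (hCT.le.trans hTU))

/-- The theorem. -/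
theorem concl_of_not_controls (hp : p ≠ 2) (S : Sylow p G)
    (h : ¬ Cfsg.ControlsStrongFusion p (zj 0 (S : Subgroup G))) : Concl p (S : Subgroup G) := by
  by_contra hS
  have hc := controls_of_not_concl hp S hS
  refine h ⟨S, zj_le 0 _, fun A hA => ⟨hA, fun g hg => ?_⟩⟩
  obtain ⟨n, hn, hng⟩ := hc (closure A) g ((closure_le _).2 hA) (by
    rw [cj, MonoidHom.map_closure, closure_le]
    rintro _ ⟨a, ha, rfl⟩
    exact hg ⟨a, ha, rfl⟩)
  exact ⟨n, hn, fun a ha => (hng a (subset_closure ha)).symm⟩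

end Cfsg.Agent.Lib.ZJFailure
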